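import Groth.Agent.FlatA.GenericFree2
import Mathlib.RingTheory.Jacobson.Ring
import Mathlib.LinearAlgebra.Pi
import Mathlib.LinearAlgebra.StdBasis
import Mathlib.Algebra.BigOperators.Fin

/-!
# An endomorphism which is a scalar on all closed fibres is generically a scalar
-/

set_option autoImplicit false
universe u v w

namespace K850.EllAlg

open Groth.Agent.FlatA.GenericFree

variable {A : Type u} [CommRing A] {M : Type v} [AddCommGroup M] [Module A M]

theorem exists_sum_of_mem_smul_top {I : Ideal A} {c : M} (h : c ∈ I • (⊤ : Submodule A M)) :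
    ∃ (n : ℕ) (i : Fin n → A) (d : Fin n → M), (∀ k, i k ∈ I) ∧ c = ∑ k, i k • d k := by
  refine Submodule.smul_induction_on h ?_ ?_
  · intro r hr m _
    exact ⟨1, fun _ => r, fun _ => m, fun _ => hr, by simp⟩
  · rintro x y ⟨n, i, d, hi, rfl⟩ ⟨n', i', d', hi', rfl⟩
    refine ⟨n + n', Fin.append i i', Fin.append d d', ?_, ?_⟩
    · intro k
      refine Fin.addCases (fun k => ?_) (fun k => ?_) k
      · rw [Fin.append_left]; exact hi k
      · rw [Fin.append_right]; exact hi' k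
    · rw [Fin.sum_univ_add]
      simp

theorem coord_mem {f : A} {ι : Type w} {b : ι → M} (hb : LinearIndependent A b)
    (hspan : ∀ m : M, ∃ k : ℕ, f ^ k • m ∈ Submodule.span A (Set.range b)) {x : Ideal A}
    (hx : x.IsPrime) (hfx : f ∉ x) {v : M} (hv : v ∈ x • (⊤ : Submodule A M)) (k : ℕ)
    (hk : f ^ k • v ∈ Submodule.span A (Set.range b)) (i : ι) :
    hb.repr ⟨f ^ k • v, hk⟩ i ∈ x := by
  classical
  obtain ⟨n, j, d, hj, hsum⟩ := exists_sum_of_mem_smul_top hv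
  choose l hl using fun t => hspan (d t)
  let L := ∑ t, l t
  have hL : ∀ t, f ^ L • d t ∈ Submodule.span A (Set.range b) := by
    intro t
    have h1 : l t ≤ L := Finset.single_le_sum (fun _ _ => Nat.zero_le _) (Finset.mem_univ t)
    obtain ⟨r, hr⟩ := Nat.exists_eq_add_of_le h1
    rw [hr, pow_add, mul_comm, mul_smul]
    exact Submodule.smul_mem _ _ (hl t)
  have h2 : (f ^ L) • (⟨f ^ k • v, hk⟩ : Submodule.span A (Set.range b)) =
      ∑ t, (f ^ k * j t) • (⟨f ^ L • d t, hL t⟩ : Submodule.span A (Set.range b)) := by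
    apply Subtype.ext
    simp only [Submodule.coe_smul, Submodule.coe_sum]
    rw [hsum, Finset.smul_sum, Finset.smul_sum]
    refine Finset.sum_congr rfl fun t _ => ?_
    rw [smul_smul, smul_smul, smul_smul]
    congr 1
    ring
  have h3 := congrArg (fun v => hb.repr v i) h2
  simp only [map_smul, map_sum, Finsupp.smul_apply, Finsupp.finsetSum_apply, smul_eq_mul] at h3
  have h4 : f ^ L * hb.repr ⟨f ^ k • v, hk⟩ i ∈ x := by
    rw [h3]
    exact Submodule.sum_mem _ fun t _ => Ideal.mul_mem_right _ _ (Ideal.mul_mem_left _ _ (hj t))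
  rcases hx.mem_or_mem h4 with h6 | h6
  · exact absurd (hx.mem_of_pow_mem _ h6) hfx
  · exact h6

theorem eq_zero_of_forall_mem [IsDomain A] [IsJacobsonRing A] {f : A} (hf : f ≠ 0) {δ : A}
    (h : ∀ x : Ideal A, x.IsMaximal → f ∉ x → δ ∈ x) : δ = 0 := by
  have h1 : f * δ ∈ Ideal.jacobson (⊥ : Ideal A) := by
    rw [Ideal.jacobson, Ideal.mem_sInf]
    rintro x ⟨-, hx⟩
    by_cases hfx : f ∈ x
    · exact Ideal.mul_mem_right _ _ hfx
    · exact Ideal.mul_mem_left _ _ (h x hx hfx)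
  rw [IsJacobsonRing.out inferInstance (Ideal.isPrime_bot.isRadical : (⊥ : Ideal A).IsRadical)] at h1
  exact (mul_eq_zero.mp (Ideal.mem_bot.mp h1)).resolve_left hf

theorem exists_dep [IsDomain A] [IsJacobsonRing A]
    (htf : ∀ (a : A) (m : M), a ≠ 0 → a • m = 0 → m = 0) {f : A} (hf : f ≠ 0)
    (hM : FreeAway A M f) (ψ : M →ₗ[A] M)
    (h : ∀ x : Ideal A, x.IsMaximal → f ∉ x → ∃ c : A, ∀ v, ψ v - c • v ∈ x • (⊤ : Submodule A M))
    (v : M) : ∃ a b : A, a ≠ 0 ∧ a • ψ v = b • v := by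
  classical
  by_cases hv : v = 0
  · exact ⟨1, 0, one_ne_zero, by rw [hv, map_zero, smul_zero, smul_zero]⟩
  obtain ⟨s, hs, hspan0⟩ := hM
  have hb : LinearIndependent A ((↑) : s → M) := hs
  have hspan : ∀ m : M, ∃ k : ℕ, f ^ k • m ∈ Submodule.span A (Set.range ((↑) : s → M)) := by
    rw [Subtype.range_coe]; exact hspan0
  obtain ⟨k1, hk1⟩ := hspan v
  obtain ⟨k2, hk2⟩ := hspan (ψ v)
  let k := k1 + k2
  have hk : ∀ m : M, (f ^ k1 • m ∈ Submodule.span A (Set.range ((↑) : s → M)) ∨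
      f ^ k2 • m ∈ Submodule.span A (Set.range ((↑) : s → M))) →
      f ^ k • m ∈ Submodule.span A (Set.range ((↑) : s → M)) := by
    rintro m (h1 | h1)
    · rw [show f ^ k = f ^ k2 * f ^ k1 by rw [← pow_add, add_comm], mul_smul]
      exact Submodule.smul_mem _ _ h1
    · rw [show f ^ k = f ^ k1 * f ^ k2 by rw [← pow_add], mul_smul]
      exact Submodule.smul_mem _ _ h1
  have hkv := hk v (Or.inl hk1)
  have hkw := hk (ψ v) (Or.inr hk2)
  set c := hb.repr ⟨f ^ k • v, hkv⟩ with hc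
  set w := hb.repr ⟨f ^ k • ψ v, hkw⟩ with hw
  have hfk : f ^ k ≠ 0 := pow_ne_zero _ hf
  have hc0 : c ≠ 0 := by
    intro h0
    have h1 : (⟨f ^ k • v, hkv⟩ : Submodule.span A (Set.range ((↑) : s → M))) = 0 :=
      LinearMap.ker_eq_bot'.mp hb.repr_ker _ h0
    exact hv (htf _ _ hfk (congrArg Subtype.val h1))
  obtain ⟨i₀, hi₀⟩ := Finsupp.ne_iff.mp hc0
  have key : ∀ i, c i₀ * w i - w i₀ * c i = 0 := by
    intro i
    refine eq_zero_of_forall_mem hf fun x hx hfx => ?_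
    obtain ⟨γ, hγ⟩ := h x hx hfx
    have h1 : f ^ k • (ψ v - γ • v) ∈ Submodule.span A (Set.range ((↑) : s → M)) := by
      rw [smul_sub, smul_comm]
      exact Submodule.sub_mem _ hkw (Submodule.smul_mem _ _ hkv)
    have h2 : ∀ i, w i - γ * c i ∈ x := by
      intro i
      have h3 := coord_mem hb hspan hx.isPrime hfx (hγ v) k h1 i
      have h4 : (⟨f ^ k • (ψ v - γ • v), h1⟩ : Submodule.span A (Set.range ((↑) : s → M))) =
          ⟨f ^ k • ψ v, hkw⟩ - γ • ⟨f ^ k • v, hkv⟩ := by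
        apply Subtype.ext
        simp only [Submodule.coe_sub, Submodule.coe_smul]
        rw [smul_sub, smul_comm]
      rw [h4, map_sub, map_smul, ← hc, ← hw] at h3
      exact h3
    have h5 : c i₀ * w i - w i₀ * c i = c i₀ * (w i - γ * c i) - c i * (w i₀ - γ * c i₀) := by
      ring
    rw [h5]
    exact Ideal.sub_mem _ (Ideal.mul_mem_left _ _ (h2 _)) (Ideal.mul_mem_left _ _ (h2 _))
  refine ⟨c i₀, w i₀, hi₀, ?_⟩
  have h6 : c i₀ • w = w i₀ • c := by
    ext i
    simp only [Finsupp.smul_apply, smul_eq_mul]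
    exact sub_eq_zero.mp (key i)
  have h7 : c i₀ • (⟨f ^ k • ψ v, hkw⟩ : Submodule.span A (Set.range ((↑) : s → M))) =
      w i₀ • ⟨f ^ k • v, hkv⟩ := by
    have h8 : Function.Injective hb.repr := LinearMap.ker_eq_bot.mp hb.repr_ker
    apply h8
    rw [map_smul, map_smul, ← hc, ← hw]
    exact h6
  have h9 := congrArg Subtype.val h7
  simp only [Submodule.coe_smul] at h9
  have h10 : f ^ k • (c i₀ • ψ v - w i₀ • v) = 0 := by
    rw [smul_sub, smul_comm, h9, smul_comm, sub_self]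
  exact sub_eq_zero.mp (htf _ _ hfk h10)

/-- If every vector is an eigenvector, the map is a scalar. -/
theorem exists_uniform [IsDomain A] (htf : ∀ (a : A) (m : M), a ≠ 0 → a • m = 0 → m = 0)
    (ψ : M →ₗ[A] M) (h : ∀ v : M, ∃ a b : A, a ≠ 0 ∧ a • ψ v = b • v) :
    ∃ a b : A, a ≠ 0 ∧ ∀ v, a • ψ v = b • v := by
  by_cases h0 : ∃ v : M, v ≠ 0
  swap
  · push Not at h0
    exact ⟨1, 0, one_ne_zero, fun v => by rw [h0 v, map_zero, smul_zero, smul_zero]⟩
  obtain ⟨v₀, hv₀⟩ := h0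
  obtain ⟨a₀, b₀, ha₀, h₀⟩ := h v₀
  refine ⟨a₀, b₀, ha₀, fun v => ?_⟩
  by_cases hdep : ∃ α β : A, α ≠ 0 ∧ α • v = β • v₀
  · obtain ⟨α, β, hα, hαβ⟩ := hdep
    have h1 : α • (a₀ • ψ v - b₀ • v) = 0 := by
      rw [smul_sub, smul_comm, ← map_smul ψ, hαβ, map_smul, smul_comm a₀ β, h₀, smul_comm α b₀,
        hαβ, smul_comm b₀ β, sub_self]
    exact sub_eq_zero.mp (htf _ _ hα h1)
  · push Not at hdep
    obtain ⟨a₁, b₁, ha₁, h₁⟩ := h v
    obtain ⟨a₂, b₂, ha₂, h₂⟩ := h (v + v₀)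
    have e1 : (a₀ * a₁ * b₂ - a₂ * a₀ * b₁) • v = (a₂ * a₁ * b₀ - a₀ * a₁ * b₂) • v₀ := by
      have h3 : (a₀ * a₁) • (b₂ • (v + v₀)) = (a₂ * a₀ * b₁) • v + (a₂ * a₁ * b₀) • v₀ := by
        rw [← h₂, map_add]
        rw [show (a₂ * a₀ * b₁) • v = (a₂ * a₀) • (b₁ • v) by rw [smul_smul],
          show (a₂ * a₁ * b₀) • v₀ = (a₂ * a₁) • (b₀ • v₀) by rw [smul_smul], ← h₁, ← h₀]
        simp only [smul_add, smul_smul]
        congr 2 <;> ring
      rw [smul_smul, smul_add] at h3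
      rw [sub_smul, sub_smul, sub_eq_sub_iff_add_eq_add]
      exact h3.trans (add_comm _ _)
    have e2 : a₀ * a₁ * b₂ - a₂ * a₀ * b₁ = 0 := by
      by_contra hne
      exact hdep _ _ hne e1
    rw [e2, zero_smul] at e1
    have e3 : a₂ * a₁ * b₀ - a₀ * a₁ * b₂ = 0 := by
      by_contra hne
      exact hv₀ (htf _ _ hne e1.symm)
    have e4 : a₀ * b₁ = a₁ * b₀ := by
      have : a₂ * (a₀ * b₁ - a₁ * b₀) = 0 := by linear_combination -e2 - e3
      exact sub_eq_zero.mp ((mul_eq_zero.mp this).resolve_left ha₂)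
    have e5 : a₁ • (a₀ • ψ v - b₀ • v) = 0 := by
      rw [smul_sub, smul_comm, h₁, smul_smul, smul_smul, e4, sub_self]
    exact sub_eq_zero.mp (htf _ _ ha₁ e5)

theorem scalar_of_fibres [IsDomain A] [IsJacobsonRing A]
    (htf : ∀ (a : A) (m : M), a ≠ 0 → a • m = 0 → m = 0) {f : A} (hf : f ≠ 0)
    (hM : FreeAway A M f) (ψ : M →ₗ[A] M)
    (h : ∀ x : Ideal A, x.IsMaximal → f ∉ x → ∃ c : A, ∀ v, ψ v - c • v ∈ x • (⊤ : Submodule A M)) :
    ∃ a b : A, a ≠ 0 ∧ ∀ v, a • ψ v = b • v :=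
  exists_uniform htf ψ (exists_dep htf hf hM ψ h)

/-- Finite products. -/
theorem freeAway_pi [Nontrivial A] {η : Type} [Finite η] (N : η → Type v) [∀ i, AddCommGroup (N i)]
    [∀ i, Module A (N i)] {f : A} (h : ∀ i, FreeAway A (N i) f) : FreeAway A (∀ i, N i) f := by
  classical
  cases nonempty_fintype η
  choose s hs hs' using h
  let b : (Σ i, s i) → ∀ i, N i := fun j => Pi.single j.1 (j.2 : N j.1)
  have hb : LinearIndependent A b :=
    Pi.linearIndependent_single (fun i => ((↑) : s i → N i)) (fun i => hs i)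
  refine FreeAway.of_family b hb fun m => ?_
  choose k hk using fun i => hs' i (m i)
  let K := ∑ i, k i
  refine ⟨K, ?_⟩
  have h1 : f ^ K • m = ∑ i, Pi.single i (f ^ K • m i) := by
    ext j
    rw [Finset.sum_apply, Finset.sum_eq_single j]
    · rw [Pi.single_eq_same]; rfl
    · intro i _ hij
      rw [Pi.single_eq_of_ne hij.symm]
    · exact fun h => absurd (Finset.mem_univ j) h
  rw [h1]
  refine Submodule.sum_mem _ fun i _ => ?_
  have h2 : k i ≤ K := Finset.single_le_sum (fun _ _ => Nat.zero_le _) (Finset.mem_univ i)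
  obtain ⟨r, hr⟩ := Nat.exists_eq_add_of_le h2
  have h3 : f ^ K • m i ∈ Submodule.span A (s i) := by
    rw [hr, pow_add, mul_comm, mul_smul]
    exact Submodule.smul_mem _ _ (hk i)
  have h4 := Submodule.mem_map_of_mem (f := LinearMap.single A N i) h3
  rw [Submodule.map_span] at h4
  refine Submodule.span_mono ?_ h4
  rintro _ ⟨t, ht, rfl⟩
  exact ⟨⟨i, ⟨t, ht⟩⟩, rfl⟩

end K850.EllAlg
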