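import Groth.Agent.S0403
import Groth.Agent.FormalB.PullCoh
import Groth.Agent.ShStab.K847.AssPure
import Groth.Agent.EGA43.K128.SuppComp
import Groth.Agent.EGA43.K122.DimJac2
import Groth.Agent.CycA.SetupField
import Groth.Agent.CalgA.UnivCat
import Groth.Prelude.Def_ega3

/-!
# Codimension in the support of a flat family of pure sheaves

For `E` coherent on `Y`, `f : Y ⟶ S` proper with `E_s` pure of dimension `d`, the condition
"all points of `Supp(E_s)` outside `U_s` have codimension at least `ℓ + 1`" spreads out.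
-/

set_option autoImplicit false
universe u

open CategoryTheory CategoryTheory.Limits AlgebraicGeometry TopologicalSpace Topology

namespace K850.EllDim

open Groth.Agent

theorem dim_eq_of_range_eq {A B T : Type*} [TopologicalSpace A] [TopologicalSpace B]
    [TopologicalSpace T] {a : A → T} {b : B → T} (ha : IsEmbedding a) (hb : IsEmbedding b)
    (h : Set.range a = Set.range b) : topologicalKrullDim A = topologicalKrullDim B := by
  let e : A ≃ₜ B := (ha.toHomeomorph.trans (Homeomorph.setCongr h)).trans hb.toHomeomorph.symm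
  exact e.isHomeomorph.topologicalKrullDim_eq

section Field

variable (κ : Type u) [Field κ]

theorem isUnivCat_stalk (s : Spec (CommRingCat.of κ)) :
    CAlg.IsUniversallyCatenary ((Spec (CommRingCat.of κ)).presheaf.stalk s) := by
  have hs : s.asIdeal.IsPrime := s.2
  let i1 : Algebra κ ((Spec (CommRingCat.of κ)).presheaf.stalk s) :=
    StructureSheaf.stalkAlgebra κ s
  have i2 : IsLocalization.AtPrime ((Spec (CommRingCat.of κ)).presheaf.stalk s) s.asIdeal :=
    StructureSheaf.IsLocalization.to_stalk (CommRingCat.of κ) s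
  have e2 : κ ≃+* (Spec (CommRingCat.of κ)).presheaf.stalk s :=
    (IsLocalization.atUnits κ s.asIdeal.primeCompl
      (S := (Spec (CommRingCat.of κ)).presheaf.stalk s) (fun x hx => by
        rw [IsUnit.mem_submonoid_iff, isUnit_iff_ne_zero]
        rintro rfl
        exact hx (Submodule.zero_mem _))).toRingEquiv
  exact CalgA.UnivCat.isUniversallyCatenary_of_ringEquiv e2
    (CycA.SetupField.isUniversallyCatenary_field κ)

variable {κ}
variable {X : Scheme.{u}}

/-- Dimension function on a scheme locally of finite type over a field. -/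
theorem exists_delta (p : X ⟶ Spec (CommRingCat.of κ)) [LocallyOfFiniteType p] :
    ∃ δ : X → ℕ, (∀ (x y : X) (h : x ⤳ y),
        ringKrullDim (Cyc.LocQuot y x h) + (δ y : WithBot ℕ∞) = (δ x : WithBot ℕ∞)) ∧
      ∀ x : X, topologicalKrullDim ↥(closure ({x} : Set X)) = δ x := by
  have hsub : Subsingleton (Spec (CommRingCat.of κ)) :=
    inferInstanceAs (Subsingleton (PrimeSpectrum κ))
  have hJ : JacobsonSpace (Spec (CommRingCat.of κ)) :=
    inferInstanceAs (JacobsonSpace (PrimeSpectrum κ))
  obtain ⟨δ, h1, h2⟩ := K122.DimJac.exists_delta (isUnivCat_stalk κ) (by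
    intro S' hS' s hs _
    have h3 : S' = {t : Spec (CommRingCat.of κ) | t ∈ S' ∧ t ⤳ s} := by
      ext t
      constructor
      · intro ht
        exact ⟨ht, by rw [Subsingleton.elim t s]⟩
      · exact fun ht => ht.1
    exact congrArg (fun Z : Set (Spec (CommRingCat.of κ)) => topologicalKrullDim ↥Z) h3) p
  refine ⟨δ, h1, fun x => ?_⟩
  have h3 := h2 Set.univ isOpen_univ x trivial
  rwa [Set.univ_inter] at h3

/-- In the support of a pure coherent module the dimension of the closure and the codimension of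
a point add up to `d`. -/
theorem add_eq (p : X ⟶ Spec (CommRingCat.of κ)) [LocallyOfFiniteType p] {E : X.Modules}
    (hE : Coh.IsCoh E) {d : ℕ} (hp : ShStab.IsPure X E d) {x : X} (hx : x ∈ CohB1.support E) :
    topologicalKrullDim ↥(closure ({x} : Set X)) +
      topologicalKrullDim {t : X // t ∈ CohB1.support E ∧ t ⤳ x} = d := by
  have hln : IsLocallyNoetherian X := LocallyOfFiniteType.isLocallyNoetherian p
  obtain ⟨δ, h1, h2⟩ := exists_delta p
  have hcl : IsClosed (CohB1.support E) := S0020.result X E hE.2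
  have h3 := K122.DimJac2.add_dim_generizations δ h1 hcl x hx
  rw [h2 x]
  refine h3.trans ?_
  obtain ⟨y, hy, hyx⟩ := K847.AssPure.exists_ass_specializes hE hx
  have hyd := K847.AssPure.dim_closure_of_isPure hE hp hy
  refine le_antisymm (iSup_le ?_) ?_
  · rintro ⟨t, ht, htx⟩
    obtain ⟨w, hw, hwt⟩ := K847.AssPure.exists_ass_specializes hE ht
    have h4 := Sga7.H764.DimClosure.closure_mono hwt
    rw [K847.AssPure.dim_closure_of_isPure hE hp hw, h2 t] at h4
    exact h4
  · have h5 : (δ y : WithBot ℕ∞) = d := by rw [← h2 y, hyd]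
    rw [← h5]
    exact le_iSup (fun t : ↥{t : X | t ∈ CohB1.support E ∧ t ⤳ x} => ((δ t : ℕ) : WithBot ℕ∞))
      ⟨y, K847.AssPure.mem_support_of_mem_ass hy, hyx⟩

end Field

/-- the bound on the dimension of the complement -/
def bd (d ℓ : ℕ) : WithBot ℕ∞ := if ℓ + 1 ≤ d then ((d - (ℓ + 1) : ℕ) : WithBot ℕ∞) else ⊥

theorem le_iff {d ℓ : ℕ} {a b : WithBot ℕ∞} (h : a + b = (d : WithBot ℕ∞)) :
    (ℓ : WithBot ℕ∞) + 1 ≤ b ↔ a ≤ bd d ℓ := by
  induction a using WithBot.recBotCoe with
  | bot => exact absurd h (by rw [WithBot.bot_add]; exact WithBot.bot_ne_coe)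
  | coe a =>
  induction b using WithBot.recBotCoe with
  | bot => exact absurd h (by rw [WithBot.add_bot]; exact WithBot.bot_ne_coe)
  | coe b =>
  induction a using ENat.recTopCoe with
  | top => exact absurd h (by
      rw [← WithBot.coe_add, top_add]
      intro h'
      exact ENat.top_ne_natCast d (WithBot.coe_injective h'))
  | coe a =>
  induction b using ENat.recTopCoe with
  | top => exact absurd h (by
      rw [← WithBot.coe_add, add_top]
      intro h'
      exact ENat.top_ne_natCast d (WithBot.coe_injective h'))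
  | coe b =>
  have h' : a + b = d := by exact_mod_cast h
  have e1 : (ℓ : WithBot ℕ∞) + 1 ≤ (((b : ℕ) : ℕ∞) : WithBot ℕ∞) ↔ ℓ + 1 ≤ b := by norm_cast
  rw [e1, bd]
  split_ifs with hd
  · have e2 : (((a : ℕ) : ℕ∞) : WithBot ℕ∞) ≤ ((d - (ℓ + 1) : ℕ) : WithBot ℕ∞) ↔
        a ≤ d - (ℓ + 1) := by
      exact Nat.cast_le
    rw [e2]
    omega
  · simp only [le_bot_iff, WithBot.coe_ne_bot, iff_false]
    omega

section Family

variable {S Y : Scheme.{u}} (f : Y ⟶ S) (E : Y.Modules)

/-- the codimension condition of the definition of `ℓ`-simplicity -/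
def CodimCond (ℓ : ℕ) (s : S) (U : (f.fiber s).Opens) : Prop :=
  ∀ z : ↥(f.fiber s), z ∉ U → z ∈ CohB1.support (CohIII.fiberMod f E s) →
    ((ℓ : WithBot ℕ∞) + 1 ≤ topologicalKrullDim {t : ↥(f.fiber s) //
      t ∈ CohB1.support (CohIII.fiberMod f E s) ∧ t ⤳ z})

variable {f E}

theorem locallyOfFiniteType_fiber [LocallyOfFiniteType f] (s : S) :
    LocallyOfFiniteType (f.fiberToSpecResidueField s) :=
  inferInstanceAs (LocallyOfFiniteType (pullback.snd f (S.fromSpecResidueField s)))

theorem isCoh_fiberMod (hE : Coh.IsCoh E) (s : S) : Coh.IsCoh (CohIII.fiberMod f E s) :=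
  FormalB.PullCoh.isCoh_pullback _ hE

theorem mem_support_fiber_iff [LocallyOfFiniteType f] [IsLocallyNoetherian S] (hE : Coh.IsCoh E)
    (s : S) (z : f.fiber s) :
    z ∈ CohB1.support (CohIII.fiberMod f E s) ↔ f.fiberι s z ∈ CohB1.support E := by
  have h1 := K128.SuppComp.supp_fiber_iff (f := f) (F := E) hE s z
  have h2 : ∀ (X : Scheme.{u}) (M : X.Modules) (x : X), x ∈ CohB1.support M ↔
      Nontrivial (M.presheaf.stalk x) := fun X M x => not_subsingleton_iff_nontrivial
  rw [h2 Y E, ← h1]
  exact h2 _ _ z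

/-- The codimension condition is a bound on the dimension of the complement. -/
theorem codimCond_iff [LocallyOfFiniteType f] [IsLocallyNoetherian S] (hE : Coh.IsCoh E) {d : ℕ}
    (ℓ : ℕ) (s : S) (hp : ShStab.IsPure (f.fiber s) (CohIII.fiberMod f E s) d)
    (U : (f.fiber s).Opens) :
    CodimCond f E ℓ s U ↔
      topologicalKrullDim ↥{z : f.fiber s | z ∈ CohB1.support (CohIII.fiberMod f E s) ∧ z ∉ U} ≤
        bd d ℓ := by
  have hlft := locallyOfFiniteType_fiber (f := f) s
  have hln : IsLocallyNoetherian (f.fiber s) :=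
    LocallyOfFiniteType.isLocallyNoetherian (f.fiberToSpecResidueField s)
  have hEs := isCoh_fiberMod (f := f) hE s
  have hcl : IsClosed {z : f.fiber s | z ∈ CohB1.support (CohIII.fiberMod f E s) ∧ z ∉ U} :=
    (S0020.result _ _ hEs.2).inter U.isOpen.isClosed_compl
  have key := fun (z : f.fiber s) (hz : z ∈ CohB1.support (CohIII.fiberMod f E s)) =>
    @add_eq (S.residueField s) _ (f.fiber s) (f.fiberToSpecResidueField s) hlft _ hEs d hp z hz
  constructor
  · intro h
    refine Sga7.H764.DimClosure.topologicalKrullDim_le_of_isClosed _ hcl _ fun z hz => ?_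
    exact (le_iff (key z hz.1)).mp (h z hz.2 hz.1)
  · intro h z hzU hz
    refine (le_iff (key z hz)).mpr (le_trans ?_ h)
    exact (IsEmbedding.inclusion (closure_minimal (Set.singleton_subset_iff.mpr
      (show z ∈ {z : f.fiber s | z ∈ CohB1.support (CohIII.fiberMod f E s) ∧ z ∉ U} from
        ⟨hz, hzU⟩)) hcl)).isInducing.topologicalKrullDim_le

/-- **Spreading out the codimension condition.** -/
theorem exists_spread [IsProper f] [IsLocallyNoetherian S] (hE : Coh.IsCoh E) {d : ℕ} (ℓ : ℕ)
    (hp : ∀ s : S, ShStab.IsPure (f.fiber s) (CohIII.fiberMod f E s) d) (ξ : S)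
    (U : (f.fiber ξ).Opens) (hU : CodimCond f E ℓ ξ U) :
    ∃ (U' : Y.Opens) (V : S.Opens), ξ ∈ V ∧ f.fiberι ξ ⁻¹ᵁ U' = U ∧
      ∀ s ∈ V, CodimCond f E ℓ s (f.fiberι s ⁻¹ᵁ U') := by
  have hlnY : IsLocallyNoetherian Y := LocallyOfFiniteType.isLocallyNoetherian f
  -- an open subset of `Y` inducing `U`
  obtain ⟨U0, hU0, hU0U⟩ := (f.fiberι ξ).isEmbedding.isInducing.isOpen_iff.mp U.isOpen
  let U' : Y.Opens := ⟨U0, hU0⟩
  have hU' : f.fiberι ξ ⁻¹ᵁ U' = U := Opens.ext hU0U
  -- the closed subset
  let Z : Closeds Y := ⟨CohB1.support E ∩ (U' : Set Y)ᶜ,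
    (S0020.result Y E hE.2).inter U'.isOpen.isClosed_compl⟩
  let h := (Scheme.IdealSheafData.vanishingIdeal Z).subschemeι ≫ f
  have hopen := S0403.result h (bd d ℓ)
  have hrange : Set.range (Scheme.IdealSheafData.vanishingIdeal Z).subschemeι = (Z : Set Y) := by
    rw [Scheme.IdealSheafData.range_subschemeι, Scheme.IdealSheafData.coe_support_vanishingIdeal]
  have hdim : ∀ s : S, topologicalKrullDim (h.fiber s) = topologicalKrullDim
      ↥{z : f.fiber s | z ∈ CohB1.support (CohIII.fiberMod f E s) ∧ z ∉ f.fiberι s ⁻¹ᵁ U'} := by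
    intro s
    refine dim_eq_of_range_eq (T := Y)
      (a := fun z => (Scheme.IdealSheafData.vanishingIdeal Z).subschemeι (h.fiberι s z))
      (b := fun z => f.fiberι s z.1)
      ((Scheme.IdealSheafData.vanishingIdeal Z).subschemeι.isEmbedding.comp
        (h.fiberι s).isEmbedding)
      ((f.fiberι s).isEmbedding.comp IsEmbedding.subtypeVal) ?_
    ext y
    constructor
    · rintro ⟨z, rfl⟩
      have h1 : (Scheme.IdealSheafData.vanishingIdeal Z).subschemeι (h.fiberι s z) ∈ (Z : Set Y) := by
        rw [← hrange]; exact ⟨_, rfl⟩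
      have h2 : f ((Scheme.IdealSheafData.vanishingIdeal Z).subschemeι (h.fiberι s z)) = s := by
        rw [← Scheme.Hom.comp_apply]
        exact K128.FibDim.fiberι_base h s z
      obtain ⟨w, hw⟩ := K128.FibDim.exists_fiberι_eq (f := f) s _ h2
      refine ⟨⟨w, ?_, ?_⟩, hw⟩
      · rw [mem_support_fiber_iff hE, hw]
        exact h1.1
      · intro h3
        exact h1.2 (by rw [← hw]; exact h3)
    · rintro ⟨⟨w, hw1, hw2⟩, rfl⟩
      have h1 : f.fiberι s w ∈ (Z : Set Y) := ⟨(mem_support_fiber_iff hE s w).mp hw1, hw2⟩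
      rw [← hrange] at h1
      obtain ⟨z, hz⟩ := h1
      have h2 : h z = s := by
        change ((Scheme.IdealSheafData.vanishingIdeal Z).subschemeι ≫ f) z = s
        rw [Scheme.Hom.comp_apply, hz]
        exact K128.FibDim.fiberι_base f s w
      obtain ⟨z', hz'⟩ := K128.FibDim.exists_fiberι_eq (f := h) s z h2
      exact ⟨z', by change (Scheme.IdealSheafData.vanishingIdeal Z).subschemeι (h.fiberι s z') = _; rw [hz', hz]⟩
  refine ⟨U', ⟨_, hopen⟩, ?_, hU', ?_⟩
  · change topologicalKrullDim (h.fiber ξ) ≤ bd d ℓ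
    rw [hdim ξ, ← codimCond_iff hE ℓ ξ (hp ξ), hU']
    exact hU
  · intro s hs
    rw [codimCond_iff hE ℓ s (hp s), ← hdim s]
    exact hs

end Family

end K850.EllDim
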