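import Groth.Agent.Fdesc.LocGenGlue
import Groth.Agent.Fdesc.LocGenPullback
import Groth.Agent.Grpsch.CubeDeform

/-!
# Endomorphisms of the restriction of a module to an open subset

An endomorphism of `M|_U` as a compatible family of endomorphisms of the sections over the opens
contained in `U`, and its pull-back.
-/

set_option autoImplicit false
universe u

open CategoryTheory CategoryTheory.Limits AlgebraicGeometry TopologicalSpace

namespace K850.EllFam

open Groth.Agent.Fdesc.LocGen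

variable {X X' : Scheme.{u}}

/-- A compatible family of endomorphisms of the sections over the opens contained in `U`. -/
structure Fam (M : X.Modules) (U : X.Opens) where
  app : ∀ V : X.Opens, V ≤ U → (Γ(M, V) →+ Γ(M, V))
  smul : ∀ (V : X.Opens) (h : V ≤ U) (a : Γ(X, V)) (m : Γ(M, V)),
    app V h (a • m) = a • app V h m
  nat : ∀ (V V' : X.Opens) (h : V ≤ U) (h' : V' ≤ V) (m : Γ(M, V)),
    app V' (h'.trans h) (res M h' m) = res M h' (app V h m)

variable {M : X.Modules} {U : X.Opens}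

theorem image_preimage_of_le {V : X.Opens} (h : V ≤ U) : U.ι ''ᵁ (U.ι ⁻¹ᵁ V) = V := by
  rw [U.ι.image_preimage_eq_opensRange_inf, Scheme.Opens.opensRange_ι]
  exact inf_eq_right.mpr h

/-- The endomorphism of the restriction. -/
noncomputable def Fam.toHom (Φ : Fam M U) : M.restrict U.ι ⟶ M.restrict U.ι :=
  mkHom (fun V => (toRestrict U.ι).toAddMonoidHom.comp
      ((Φ.app (U.ι ''ᵁ V) (Scheme.Opens.ι_image_le U V)).comp
        (toRestrict U.ι).symm.toAddMonoidHom))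
    (fun V a m => by
      change toRestrict U.ι (Φ.app _ _ ((toRestrict U.ι).symm (a • m))) = _
      rw [toRestrict_symm_smul, Φ.smul, toRestrict_smul]
      congr 1
      exact (ConcreteCategory.congr_hom (U.ι.appIso V).inv_hom_id a))
    (fun V V' h m => by
      change toRestrict U.ι (Φ.app _ _ ((toRestrict U.ι).symm (res (M.restrict U.ι) h m))) = _
      have h1 : (toRestrict U.ι).symm (res (M.restrict U.ι) h m) =
          res M (U.ι.image_mono h) ((toRestrict U.ι).symm m) := rfl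
      rw [h1, Φ.nat]
      rfl)

theorem Fam.toHom_app (Φ : Fam M U) (V : (U : Scheme.{u}).Opens) (m : Γ(M, U.ι ''ᵁ V)) :
    Φ.toHom.app V (toRestrict U.ι m) =
      toRestrict U.ι (Φ.app (U.ι ''ᵁ V) (Scheme.Opens.ι_image_le U V) m) := rfl

/-- The family of an endomorphism of the restriction. -/
noncomputable def Fam.ofHom (φ : M.restrict U.ι ⟶ M.restrict U.ι) : Fam M U where
  app V h := (res M (image_preimage_of_le h).ge).comp
    ((toRestrict U.ι).symm.toAddMonoidHom.comp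
      ((φ.app (U.ι ⁻¹ᵁ V)).hom.comp ((toRestrict U.ι).toAddMonoidHom.comp
        (res M (image_preimage_of_le h).le))))
  smul V h a m := by
    change res M _ ((toRestrict U.ι).symm (φ.app _ (toRestrict U.ι (res M _ (a • m))))) =
      a • res M _ ((toRestrict U.ι).symm (φ.app _ (toRestrict U.ι (res M _ m))))
    rw [res_smul, toRestrict_smul, Scheme.Modules.Hom.app_smul, toRestrict_symm_smul, res_smul]
    congr 1
    have h1 : (U.ι.appIso (U.ι ⁻¹ᵁ V)).inv ((U.ι.appIso (U.ι ⁻¹ᵁ V)).hom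
        (ores (image_preimage_of_le h).le a)) = ores (image_preimage_of_le h).le a :=
      ConcreteCategory.congr_hom (U.ι.appIso (U.ι ⁻¹ᵁ V)).hom_inv_id _
    rw [h1, ores_ores, ores_refl]
  nat V V' h h' m := by
    change res M _ ((toRestrict U.ι).symm (φ.app _ (toRestrict U.ι (res M _ (res M _ m))))) =
      res M _ (res M _ ((toRestrict U.ι).symm (φ.app _ (toRestrict U.ι (res M _ m)))))
    have h1 : toRestrict U.ι (res M (image_preimage_of_le (h'.trans h)).le (res M h' m)) =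
        res (M.restrict U.ι) (U.ι.preimage_mono h')
          (toRestrict U.ι (res M (image_preimage_of_le h).le m)) := by
      rw [res_toRestrict, res_res, res_res]
    rw [h1, app_res]
    have h2 : ∀ t : Γ(M.restrict U.ι, U.ι ⁻¹ᵁ V),
        (toRestrict U.ι).symm (res (M.restrict U.ι) (U.ι.preimage_mono h') t) =
          res M (U.ι.image_mono (U.ι.preimage_mono h')) ((toRestrict U.ι).symm t) := fun _ => rfl
    rw [h2, res_res, res_res]

theorem Fam.ofHom_app (φ : M.restrict U.ι ⟶ M.restrict U.ι) (V : (U : Scheme.{u}).Opens)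
    (m : Γ(M, U.ι ''ᵁ V)) :
    toRestrict U.ι ((Fam.ofHom φ).app (U.ι ''ᵁ V) (Scheme.Opens.ι_image_le U V) m) =
      φ.app V (toRestrict U.ι m) := by
  have hV : U.ι ⁻¹ᵁ (U.ι ''ᵁ V) = V := U.ι.preimage_image_eq V
  change toRestrict U.ι (res M _ ((toRestrict U.ι).symm (φ.app _ (toRestrict U.ι (res M _ m))))) = _
  have h1 : toRestrict U.ι (res M
      (image_preimage_of_le (Scheme.Opens.ι_image_le U V)).le m) =
      res (M.restrict U.ι) hV.le (toRestrict U.ι m) := rfl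
  rw [h1, app_res]
  change toRestrict U.ι (res M _ ((toRestrict U.ι).symm
    (res (M.restrict U.ι) hV.le (φ.app V (toRestrict U.ι m))))) = _
  have h2 : (toRestrict U.ι).symm (res (M.restrict U.ι) hV.le (φ.app V (toRestrict U.ι m))) =
      res M (U.ι.image_mono hV.le) ((toRestrict U.ι).symm (φ.app V (toRestrict U.ι m))) := rfl
  rw [h2, res_res, res_refl]
  rfl

theorem ofHom_app' (φ : M.restrict U.ι ⟶ M.restrict U.ι) {V : X.Opens} (h : V ≤ U) (m : Γ(M, V)) :
    (Fam.ofHom φ).app V h m = res M (image_preimage_of_le h).ge ((toRestrict U.ι).symm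
      (φ.app (U.ι ⁻¹ᵁ V) (toRestrict U.ι (res M (image_preimage_of_le h).le m)))) := rfl

/-- The family on the pull-back along the inclusion of `U`. -/
theorem exists_pullback_ι (Φ : Fam M U) :
    ∃ φ : (Scheme.Modules.pullback U.ι).obj M ⟶ (Scheme.Modules.pullback U.ι).obj M,
      ∀ (V : X.Opens) (h : V ≤ U) (m : Γ(M, V)),
        φ.app (U.ι ⁻¹ᵁ V) (pullSec U.ι m) = pullSec U.ι (Φ.app V h m) := by
  refine ⟨(Scheme.Modules.restrictFunctorIsoPullback U.ι).inv.app M ≫ Φ.toHom ≫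
    (Scheme.Modules.restrictFunctorIsoPullback U.ι).hom.app M, fun V h m => ?_⟩
  have h1 := restrictFunctorIsoPullback_hom_app U.ι (M := M) (U := V)
  have h2 : (Scheme.Modules.restrictFunctorIsoPullback U.ι).hom.app M ≫
      (Scheme.Modules.restrictFunctorIsoPullback U.ι).inv.app M = 𝟙 _ := by simp
  have h3 : ((Scheme.Modules.restrictFunctorIsoPullback U.ι).inv.app M).app (U.ι ⁻¹ᵁ V)
      (pullSec U.ι m) = toRestrict U.ι (res M (U.ι.image_preimage_le V) m) := by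
    rw [← h1 m]
    exact congr(($(h2).app _) _)
  change ((Scheme.Modules.restrictFunctorIsoPullback U.ι).hom.app M).app (U.ι ⁻¹ᵁ V)
    (Φ.toHom.app (U.ι ⁻¹ᵁ V) (((Scheme.Modules.restrictFunctorIsoPullback U.ι).inv.app M).app
      (U.ι ⁻¹ᵁ V) (pullSec U.ι m))) = _
  rw [h3, Fam.toHom_app, Φ.nat V _ h (U.ι.image_preimage_le V), h1]

theorem comp_app' {P Q R : X.Modules} (a : P ⟶ Q) (b : Q ⟶ R) {V : X.Opens} (x : Γ(P, V)) :
    (a ≫ b).app V x = b.app V (a.app V x) := rfl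

theorem inv_hom_app {P Q : X.Modules} (e : P ≅ Q) {V : X.Opens} (x : Γ(P, V)) :
    e.inv.app V (e.hom.app V x) = x := by
  rw [← comp_app', e.hom_inv_id]
  rfl

/-- Endomorphisms of the pull-back to an open and families. -/
theorem exists_fam (φ : (Scheme.Modules.pullback U.ι).obj M ⟶ (Scheme.Modules.pullback U.ι).obj M) :
    ∃ Ψ : Fam M U, ∀ (V : X.Opens) (h : V ≤ U) (m m' : Γ(M, V)),
      φ.app (U.ι ⁻¹ᵁ V) (pullSec U.ι m) = pullSec U.ι m' → Ψ.app V h m = m' := by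
  let e : M.restrict U.ι ≅ (Scheme.Modules.pullback U.ι).obj M :=
    (Scheme.Modules.restrictFunctorIsoPullback U.ι).app M
  refine ⟨Fam.ofHom (e.hom ≫ φ ≫ e.inv), fun V h m m' hm => ?_⟩
  have h1 : ∀ m : Γ(M, V), e.hom.app (U.ι ⁻¹ᵁ V)
      (toRestrict U.ι (res M (U.ι.image_preimage_le V) m)) = pullSec U.ι m :=
    restrictFunctorIsoPullback_hom_app U.ι (M := M) (U := V)
  have h3 : (e.hom ≫ φ ≫ e.inv).app (U.ι ⁻¹ᵁ V)
        (toRestrict U.ι (res M (U.ι.image_preimage_le V) m)) =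
      toRestrict U.ι (res M (U.ι.image_preimage_le V) m') := by
    rw [comp_app', comp_app', h1, hm, ← h1, inv_hom_app]
  rw [ofHom_app']
  refine (congrArg (fun t => res M _ ((toRestrict U.ι).symm t)) h3).trans ?_
  rw [AddEquiv.symm_apply_apply, res_res, res_refl]

theorem exists_pull_aux (g : X' ⟶ X) (Φ : Fam M U) :
    ∃ ψ' : (Scheme.Modules.pullback (g ⁻¹ᵁ U).ι).obj ((Scheme.Modules.pullback g).obj M) ⟶
      (Scheme.Modules.pullback (g ⁻¹ᵁ U).ι).obj ((Scheme.Modules.pullback g).obj M),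
      ∀ (V : X.Opens) (h : V ≤ U) (m : Γ(M, V)),
      ψ'.app ((g ⁻¹ᵁ U).ι ⁻¹ᵁ (g ⁻¹ᵁ V)) (pullSec (g ⁻¹ᵁ U).ι (pullSec g m)) =
        pullSec (g ⁻¹ᵁ U).ι (pullSec g (Φ.app V h m)) := by
  obtain ⟨φ, hφ⟩ := exists_pullback_ι Φ
  have w : (g ∣_ U) ≫ U.ι = (g ⁻¹ᵁ U).ι ≫ g := morphismRestrict_ι g U
  obtain ⟨θ₁, hθ₁⟩ := Groth.Agent.Grpsch.CubeDeform.exists_compat (g ∣_ U) U.ι (g ⁻¹ᵁ U).ι g w M
  obtain ⟨θ₂, hθ₂⟩ := Groth.Agent.Grpsch.CubeDeform.exists_compat (g ⁻¹ᵁ U).ι g (g ∣_ U) U.ι w.symm M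
  refine ⟨θ₁ ≫ (Scheme.Modules.pullback (g ∣_ U)).map φ ≫ θ₂, fun V h m => ?_⟩
  have hZ : (g ⁻¹ᵁ U).ι ⁻¹ᵁ (g ⁻¹ᵁ V) ≤ (g ∣_ U) ⁻¹ᵁ (U.ι ⁻¹ᵁ V) := by
    rw [← Scheme.Hom.comp_preimage, ← Scheme.Hom.comp_preimage, w]
  have e1 := hθ₁ V m _ hZ le_rfl
  rw [res_refl] at e1
  have e2 := hθ₂ V (Φ.app V h m) _ le_rfl hZ
  rw [res_refl] at e2
  have e3 : ((Scheme.Modules.pullback (g ∣_ U)).map φ).app ((g ⁻¹ᵁ U).ι ⁻¹ᵁ (g ⁻¹ᵁ V))
      (res _ hZ (pullSec (g ∣_ U) (pullSec U.ι m))) =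
      res _ hZ (pullSec (g ∣_ U) (pullSec U.ι (Φ.app V h m))) := by
    rw [app_res, pullback_map_pullSec, hφ V h m]
  exact ((congrArg (fun t => θ₂.app _ (((Scheme.Modules.pullback (g ∣_ U)).map φ).app _ t)) e1).trans
    (congrArg (fun t => θ₂.app _ t) e3)).trans e2

/-- **Pull-back of a family.** -/
theorem exists_pull (g : X' ⟶ X) (Φ : Fam M U) :
    ∃ Ψ : Fam ((Scheme.Modules.pullback g).obj M) (g ⁻¹ᵁ U),
      ∀ (V : X.Opens) (h : V ≤ U) (m : Γ(M, V)),
        Ψ.app (g ⁻¹ᵁ V) (g.preimage_mono h) (pullSec g m) = pullSec g (Φ.app V h m) := by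
  obtain ⟨ψ', hψ'⟩ := exists_pull_aux g Φ
  obtain ⟨Ψ, hΨ⟩ := exists_fam ψ'
  exact ⟨Ψ, fun V h m => hΨ _ _ _ _ (hψ' V h m)⟩

end K850.EllFam
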