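import Groth.Agent.Coherent.K850.EllSpread
import Groth.Agent.Coherent.K850.EllDim
import Groth.Agent.Coherent.K850.EllAlg
import Groth.Agent.Sga4h.H569.CurvePts
import Groth.Agent.Divis.WeakAssQc

/-!
# Scalar endomorphisms on the closed fibres and on the generic fibre
-/

set_option autoImplicit false
universe u v

open CategoryTheory CategoryTheory.Limits AlgebraicGeometry TopologicalSpace

namespace K850.EllMain

open Groth.Agent Groth.Agent.Fdesc.LocGen K850.EllSec K850.EllFam K850.EllDim K850.EllAlg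
  K850.EllSpread VarietyB.FlatH0 FlatA.GenericFree

section General

variable {X : Scheme.{u}} {M : X.Modules} {U : X.Opens}

theorem scalar_of_toHom (Φ : Fam M U) (c : Γ(X, ⊤))
    (h : ∀ (V : (U : Scheme.{u}).Opens) (m : Γ(M, U.ι ''ᵁ V)),
      Φ.toHom.app V (toRestrict U.ι m) =
        toRestrict U.ι (ores (le_top : U.ι ''ᵁ V ≤ ⊤) c • m))
    (V : X.Opens) (hV : V ≤ U) (m : Γ(M, V)) : Φ.app V hV m = ores (le_top : V ≤ ⊤) c • m := by
  have h1 := (toRestrict U.ι).injective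
    (h (U.ι ⁻¹ᵁ V) (res M (image_preimage_of_le hV).le m))
  have h2 := congrArg (res M (image_preimage_of_le hV).ge) h1
  rw [res_smul, ores_ores, res_res, res_refl] at h2
  rw [← h2]
  have h3 : (toRestrict U.ι).symm.toAddMonoidHom (toRestrict U.ι
      (res M (image_preimage_of_le hV).le m)) = res M (image_preimage_of_le hV).le m :=
    AddEquiv.symm_apply_apply _ _
  have h4 := Φ.nat V (U.ι ''ᵁ (U.ι ⁻¹ᵁ V)) hV (image_preimage_of_le hV).le m
  have h5 := congrArg (res M (image_preimage_of_le hV).ge) h4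
  rw [res_res, res_refl] at h5
  exact h5.symm

theorem scalar_of_cover (hM : Coh.IsQCoh M) (Φ : Fam M U) (c : Γ(X, ⊤)) {ι : Type*}
    (W : ι → X.Opens) (hW : ∀ i, IsAffineOpen (W i)) (hWU : ∀ i, W i ≤ U) (hc : U ≤ ⨆ i, W i)
    (h : ∀ i (m : Γ(M, W i)), Φ.app (W i) (hWU i) m = ores (le_top : W i ≤ ⊤) c • m)
    (V : X.Opens) (hV : V ≤ U) (m : Γ(M, V)) : Φ.app V hV m = ores (le_top : V ≤ ⊤) c • m := by
  have h1 : ∀ y : V, ∃ (B : X.Opens) (hB : B ≤ V), y.1 ∈ B ∧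
      ∀ m' : Γ(M, B), Φ.app B (hB.trans hV) m' = ores (le_top : B ≤ ⊤) c • m' := by
    intro y
    obtain ⟨i, hi⟩ := Opens.mem_iSup.mp (hc (hV y.2))
    obtain ⟨b, hb, hyb⟩ := (hW i).exists_basicOpen_le y hi
    refine ⟨X.basicOpen b, hb, hyb, fun m' => ?_⟩
    obtain ⟨n, m0, hm0⟩ := Pi1C.ZeroScheme.exists_res_eq hM (hW i) b m'
    obtain ⟨u, hu⟩ := (Pi1C.ZeroScheme.isUnit_ores_basicOpen b).pow n
    have h2 := congrArg (res M (X.basicOpen_le b)) (h i m0)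
    rw [← Φ.nat, res_smul, ores_ores, hm0, Φ.smul, smul_comm, ← hu] at h2
    have h3 := congrArg (fun t => (↑u⁻¹ : Γ(X, X.basicOpen b)) • t) h2
    simp only [smul_smul, Units.inv_mul, one_smul] at h3
    rw [h3, ← mul_assoc, Units.inv_mul, one_mul]
  choose B hB hyB hs using h1
  refine res_ext M B hB (fun y hy => Opens.mem_iSup.mpr ⟨⟨y, hy⟩, hyB _⟩) fun y => ?_
  rw [← Φ.nat, hs, res_smul, ores_ores]

theorem mem_smul_top_pi {A : Type u} [CommRing A] {η : Type} [Finite η] {N : η → Type v}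
    [∀ i, AddCommGroup (N i)] [∀ i, Module A (N i)] (I : Ideal A) (v : ∀ i, N i)
    (h : ∀ i, v i ∈ I • (⊤ : Submodule A (N i))) :
    v ∈ I • (⊤ : Submodule A (∀ i, N i)) := by
  classical
  cases nonempty_fintype η
  have h1 : v = ∑ i, LinearMap.single A N i (v i) := by
    ext j
    simp [Finset.sum_apply]
  rw [h1]
  refine Submodule.sum_mem _ fun i _ => ?_
  have h2 := Submodule.mem_map_of_mem (f := LinearMap.single A N i) (h i)
  rw [Submodule.map_smul''] at h2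
  exact Submodule.smul_mono le_rfl le_top h2

theorem pullSec_zero {X X' : Scheme.{u}} (g : X' ⟶ X) (M : X.Modules) (U : X.Opens) :
    pullSec g (0 : Γ(M, U)) = 0 := by
  have := pullSec_add g (0 : Γ(M, U)) 0
  rw [add_zero] at this
  exact left_eq_add.mp this

theorem pullSec_sub {X X' : Scheme.{u}} (g : X' ⟶ X) {M : X.Modules} {U : X.Opens}
    (m m' : Γ(M, U)) : pullSec g (m - m') = pullSec g m - pullSec g m' := by
  rw [eq_sub_iff_add_eq, ← pullSec_add, sub_add_cancel]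

theorem isJacobsonRing_of_affine [JacobsonSpace X] {V : X.Opens} (hV : IsAffineOpen V) :
    IsJacobsonRing Γ(X, V) := by
  rw [PrimeSpectrum.isJacobsonRing_iff_jacobsonSpace]
  exact JacobsonSpace.of_isOpenEmbedding hV.fromSpec.isOpenEmbedding

end General

section Gen

variable {S Y : Scheme.{u}} {f : Y ⟶ S} {E : Y.Modules} [IsIntegral S]
  {V₀ : S.Opens} (hV₀ : IsAffineOpen V₀) (hs : genericPoint S ∈ V₀)

include hV₀ hs in
theorem eq_zero_of_smul (hE : Coh.IsQCoh E) (hfl : FlatMod.IsFlatOver f E) {W : Y.Opens}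
    (e : W ≤ f ⁻¹ᵁ V₀) (a : Γ(S, V₀)) (m : Γ(E, W)) (ha : a ≠ 0)
    (h : f.appLE V₀ W e a • m = 0) : m = 0 := by
  refine pullSec_injective E hV₀ hs e hE hfl ?_
  have h1 := pullSec_appLE_smul hs e a m
  rw [h, pullSec_zero] at h1
  have h2 : ev _ hs a ≠ 0 := fun h0 => ha (ev_injective hs (h0.trans (map_zero _).symm))
  have h3 := congrArg (fun t => sc f _ (f.fiberι (genericPoint S) ⁻¹ᵁ W) (ev _ hs a)⁻¹ • t) h1
  simp only [smul_smul, ← map_mul, inv_mul_cancel₀ h2, map_one, one_smul, smul_zero] at h3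
  exact h3.symm.trans (pullSec_zero _ _ _).symm

theorem exists_freeAway [LocallyOfFiniteType f] (hV₀ : IsAffineOpen V₀) [Nonempty V₀]
    (hE : Coh.IsCoh E)
    {W : Y.Opens} (hW : IsAffineOpen W) (e : W ≤ f ⁻¹ᵁ V₀) :
    letI := modOver f E e
    ∃ a : Γ(S, V₀), a ≠ 0 ∧ FreeAway Γ(S, V₀) Γ(E, W) a := by
  let i1 : Algebra Γ(S, V₀) Γ(Y, W) := (f.appLE V₀ W e).hom.toAlgebra
  let i2 := modOver f E e
  have i5 : IsScalarTower Γ(S, V₀) Γ(Y, W) Γ(E, W) := ⟨fun a b m => by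
    rw [Algebra.smul_def, mul_smul]; rfl⟩
  have hdom : IsDomain Γ(S, V₀) := inferInstance
  have hq : Coh.IsQCoh E := hE.1
  have hfin : Module.Finite Γ(Y, W) Γ(E, W) :=
    CohqB.FiniteType2.finite_sections_of_isFT E hE.2 hW
  have hft : Algebra.FiniteType Γ(S, V₀) Γ(Y, W) := f.finiteType_appLE hV₀ hW e
  exact genFree_of_finiteType (R := Γ(S, V₀)) Γ(Y, W) Γ(E, W)

end Gen

section Main

variable {S Y : Scheme.{u}} {f : Y ⟶ S} {E : Y.Modules} [IsIntegral S]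
  {V₀ : S.Opens} (hV₀ : IsAffineOpen V₀) (hs : genericPoint S ∈ V₀)

include hV₀ hs in
/-- The algebraic core: a family on `W` which is a scalar on the closed fibres. -/
theorem exists_scalar_of_fam [LocallyOfFiniteType f] [JacobsonSpace S] (hE : Coh.IsCoh E)
    (hfl : FlatMod.IsFlatOver f E) {W : Y.Opens} {n : ℕ} (Wi : Fin n → Y.Opens)
    (hWi : ∀ i, IsAffineOpen (Wi i)) (e : ∀ i, Wi i ≤ f ⁻¹ᵁ V₀) (hWW : ∀ i, Wi i ≤ W)
    (Ψ : Fam E W)
    (h : ∀ s : S, s ∈ V₀ → IsClosed ({s} : Set S) → ∃ c : S.residueField s,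
      ∀ (V : Y.Opens) (hV : V ≤ W) (m : Γ(E, V)), pullSec (f.fiberι s) (Ψ.app V hV m) =
        sc f s (f.fiberι s ⁻¹ᵁ V) c • pullSec (f.fiberι s) m) :
    ∃ a b : Γ(S, V₀), a ≠ 0 ∧ ∀ (i) (m : Γ(E, Wi i)),
      f.appLE V₀ (Wi i) (e i) a • Ψ.app (Wi i) (hWW i) m =
        f.appLE V₀ (Wi i) (e i) b • m := by
  classical
  have hne : Nonempty V₀ := ⟨⟨_, hs⟩⟩
  have hdom : IsDomain Γ(S, V₀) := inferInstance
  have hJ : IsJacobsonRing Γ(S, V₀) := isJacobsonRing_of_affine hV₀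
  let iM : ∀ i, Module Γ(S, V₀) Γ(E, Wi i) := fun i => modOver f E (e i)
  have h1 : ∀ i, ∃ a : Γ(S, V₀), a ≠ 0 ∧ FreeAway Γ(S, V₀) Γ(E, Wi i) a := fun i =>
    exists_freeAway hV₀ hE (hWi i) (e i)
  choose α hα hα' using h1
  let A := ∏ i, α i
  have hA : A ≠ 0 := Finset.prod_ne_zero_iff.mpr fun i _ => hα i
  have h2 : FreeAway Γ(S, V₀) (∀ i, Γ(E, Wi i)) A := freeAway_pi _ fun i =>
    (hα' i).of_dvd (Finset.dvd_prod_of_mem α (Finset.mem_univ i))
  let ψi : ∀ i, Γ(E, Wi i) →ₗ[Γ(S, V₀)] Γ(E, Wi i) := fun i =>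
    { toFun := Ψ.app (Wi i) (hWW i)
      map_add' := map_add _
      map_smul' := fun a m => Ψ.smul (Wi i) (hWW i) (f.appLE V₀ (Wi i) (e i) a) m }
  let ψ : (∀ i, Γ(E, Wi i)) →ₗ[Γ(S, V₀)] (∀ i, Γ(E, Wi i)) :=
    LinearMap.pi fun i => (ψi i).comp (LinearMap.proj i)
  obtain ⟨a, b, ha, hab⟩ := scalar_of_fibres (M := ∀ i, Γ(E, Wi i)) (by
      intro a m ha ham
      funext i
      exact eq_zero_of_smul hV₀ hs hE.1 hfl (e i) a (m i) ha (congrFun ham i))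
    hA h2 ψ (by
      intro x hx hxA
      obtain ⟨s, hsV, hsc, hker⟩ := Sga4h.H569.CurvePts.exists_of_isMaximal hV₀ x
      obtain ⟨c, hc⟩ := h s hsV hsc
      obtain ⟨b, rfl⟩ := ev_surjective hV₀ hsV hsc c
      refine ⟨b, fun v => mem_smul_top_pi x _ fun i => ?_⟩
      have h3 := mem_of_pullSec_eq_zero E hV₀ hsV hsc (hWi i) (e i) hE.1
        (Ψ.app (Wi i) (hWW i) (v i) - f.appLE V₀ (Wi i) (e i) b • v i) (by
          rw [pullSec_sub, hc, pullSec_appLE_smul hsV, sub_self])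
      have h4 : RingHom.ker (ev s hsV) = x := hker
      rw [h4] at h3
      exact h3)
  refine ⟨a, b, ha, fun i m => ?_⟩
  have h5 := congrFun (hab (Pi.single i m)) i
  have h6 : ψ (Pi.single i m) i = Ψ.app (Wi i) (hWW i) m := by
    change Ψ.app (Wi i) (hWW i) ((Pi.single i m : ∀ i, Γ(E, Wi i)) i) = _
    rw [Pi.single_eq_same]
  have h7 : (a • ψ (Pi.single i m)) i = f.appLE V₀ (Wi i) (e i) a • ψ (Pi.single i m) i := rfl
  have h8 : (b • (Pi.single i m : ∀ i, Γ(E, Wi i))) i =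
      f.appLE V₀ (Wi i) (e i) b • (Pi.single i m : ∀ i, Γ(E, Wi i)) i := rfl
  rw [h7, h6, h8, Pi.single_eq_same] at h5
  exact h5

omit [IsIntegral S] in
theorem preimage_inf_eq (V₀ : S.Opens) (U' : Y.Opens) (s : S) (hsV : s ∈ V₀) :
    f.fiberι s ⁻¹ᵁ (U' ⊓ f ⁻¹ᵁ V₀) = f.fiberι s ⁻¹ᵁ U' := by
  refine le_antisymm ((f.fiberι s).preimage_mono inf_le_left) fun z hz => ⟨hz, ?_⟩
  change f (f.fiberι s z) ∈ V₀
  rw [K128.FibDim.fiberι_base f s z]
  exact hsV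

omit [IsIntegral S] in
theorem scalar_aux {K R M : Type*} [Field K] [CommRing R] [AddCommGroup M] [Module R M]
    (σ : K →+* R) {x y z w : K} (hx : x ≠ 0) (hy : y ≠ 0) (hz : z ≠ 0) {m m' : M}
    (h : σ x • σ y • σ z • m' = σ w • σ z • m) : m' = σ (w * (x * y)⁻¹) • m := by
  have h2 : σ ((x * y * z)⁻¹ * (x * (y * z))) • m' = σ ((x * y * z)⁻¹ * (w * z)) • m := by
    rw [map_mul, map_mul σ x, map_mul σ y, map_mul σ _ (w * z), map_mul σ w, mul_smul, mul_smul,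
      mul_smul, mul_smul, mul_smul, h]
  have e1 : (x * y * z)⁻¹ * (x * (y * z)) = 1 := by field_simp
  have e2 : (x * y * z)⁻¹ * (w * z) = w * (x * y)⁻¹ := by field_simp
  rw [e1, e2, map_one, one_smul] at h2
  exact h2

include hV₀ hs in
/-- The generic scalar from the integral relation. -/
theorem scalar_generic (hE : Coh.IsCoh E)
    {U : (f.fiber (genericPoint S)).Opens} (Φ : Fam (CohIII.fiberMod f E (genericPoint S)) U)
    {W : Y.Opens} (hWi : IsAffineOpen W) (e : W ≤ f ⁻¹ᵁ V₀)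
    (hWU : f.fiberι (genericPoint S) ⁻¹ᵁ W ≤ U) (Ψ : Γ(E, W) → Γ(E, W)) (a a' b' : Γ(S, V₀))
    (ha : a ≠ 0) (ha' : a' ≠ 0)
    (hΨ : ∀ m : Γ(E, W), pullSec (f.fiberι (genericPoint S)) (Ψ m) =
        sc f _ (f.fiberι (genericPoint S) ⁻¹ᵁ W) (ev _ hs a) •
        Φ.app (f.fiberι (genericPoint S) ⁻¹ᵁ W) hWU (pullSec (f.fiberι (genericPoint S)) m))
    (hab : ∀ m : Γ(E, W), f.appLE V₀ W e a' • Ψ m = f.appLE V₀ W e b' • m)
    (m : Γ(CohIII.fiberMod f E (genericPoint S), f.fiberι (genericPoint S) ⁻¹ᵁ W)) :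
    Φ.app (f.fiberι (genericPoint S) ⁻¹ᵁ W) hWU m =
      sc f _ (f.fiberι (genericPoint S) ⁻¹ᵁ W)
        (ev _ hs b' * (ev _ hs a' * ev _ hs a)⁻¹) • m := by
  obtain ⟨α, μ, hα, hμ⟩ := exists_pullSec_eq E hV₀ hs hWi e hE.1 m
  have h1 := congrArg (fun t => pullSec (f.fiberι (genericPoint S)) t) (hab μ)
  simp only [] at h1
  rw [pullSec_appLE_smul hs e, hΨ, pullSec_appLE_smul hs e, hμ, Φ.smul] at h1
  have h0 : ∀ {x : Γ(S, V₀)}, x ≠ 0 → ev (genericPoint S) hs x ≠ 0 := fun hx h0 =>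
    hx (ev_injective hs (h0.trans (map_zero _).symm))
  exact scalar_aux (sc f _ (f.fiberι (genericPoint S) ⁻¹ᵁ W)) (h0 ha') (h0 ha) (h0 hα) h1

/-- **Generic scalars.** -/
theorem exists_scalar_generic {k : Type u} [Field k] (q : S ⟶ Spec (CommRingCat.of k))
    [LocallyOfFiniteType q] [CompactSpace S] [IsProper f] (hE : Coh.IsCoh E)
    (hfl : FlatMod.IsFlatOver f E) {d : ℕ} (ℓ : ℕ)
    (hp : ∀ s : S, ShStab.IsPure (f.fiber s) (CohIII.fiberMod f E s) d)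
    (h : ∀ s : S, IsClosed ({s} : Set S) → ∀ U : (f.fiber s).Opens, CodimCond f E ℓ s U →
      ∀ Φ : Fam (CohIII.fiberMod f E s) U, ∃ c : S.residueField s,
        ∀ (V : (f.fiber s).Opens) (hV : V ≤ U) (m : Γ(CohIII.fiberMod f E s, V)),
          Φ.app V hV m = sc f s V c • m)
    (U : (f.fiber (genericPoint S)).Opens) (hU : CodimCond f E ℓ (genericPoint S) U)
    (Φ : Fam (CohIII.fiberMod f E (genericPoint S)) U) :
    ∃ c : S.residueField (genericPoint S),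
      ∀ (V : (f.fiber (genericPoint S)).Opens) (hV : V ≤ U)
        (m : Γ(CohIII.fiberMod f E (genericPoint S), V)),
        Φ.app V hV m = sc f _ V c • m := by
  classical
  have hlnS : IsLocallyNoetherian S := LocallyOfFiniteType.isLocallyNoetherian q
  have hJ : JacobsonSpace S := LocallyOfFiniteType.jacobsonSpace q
  have hlnY : IsLocallyNoetherian Y := LocallyOfFiniteType.isLocallyNoetherian f
  have hcY : CompactSpace Y := QuasiCompact.compactSpace_of_compactSpace f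
  have hnY : IsNoetherian Y := {}
  obtain ⟨U', V, hξ, hU', hV⟩ := exists_spread hE ℓ hp _ U hU
  obtain ⟨V₀, hV₀, hs, hV₀V⟩ := exists_isAffineOpen_mem_and_subset hξ
  have hWξ : f.fiberι (genericPoint S) ⁻¹ᵁ (U' ⊓ f ⁻¹ᵁ V₀) = U :=
    (preimage_inf_eq V₀ U' _ hs).trans hU'
  let W : Y.Opens := U' ⊓ f ⁻¹ᵁ V₀
  have e : W ≤ f ⁻¹ᵁ V₀ := inf_le_right
  have hWc : IsCompact (W : Set Y) := NoetherianSpace.isCompact _
  obtain ⟨t, htW, ht⟩ := Divis.WeakAssQc.exists_finite_affine_cover Y hWc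
  let Wi : Fin t.card → Y.Opens := fun i => (t.equivFin.symm i).1.1
  have hWi : ∀ i, IsAffineOpen (Wi i) := fun i => (t.equivFin.symm i).1.2
  have hWW : ∀ i, Wi i ≤ W := fun i => htW _ (t.equivFin.symm i).2
  have hcov : W ≤ ⨆ i, Wi i := fun x hx => by
    obtain ⟨A, hA, hxA⟩ := ht x hx
    refine Opens.mem_iSup.mpr ⟨t.equivFin ⟨A, hA⟩, ?_⟩
    change x ∈ (t.equivFin.symm (t.equivFin ⟨A, hA⟩)).1.1
    rw [Equiv.symm_apply_apply]
    exact hxA
  have hWU : ∀ {A : Y.Opens}, A ≤ W → f.fiberι (genericPoint S) ⁻¹ᵁ A ≤ U := fun hA =>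
    ((f.fiberι _).preimage_mono hA).trans hWξ.le
  choose α hα hP using fun i => exists_P hV₀ hs Φ hE (hWi i) (hWU (hWW i)) ((hWW i).trans e)
  have ha : ∏ i, α i ≠ 0 := by
    have hne : Nonempty V₀ := ⟨⟨_, hs⟩⟩
    have hdom : IsDomain Γ(S, V₀) := inferInstance
    exact Finset.prod_ne_zero_iff.mpr fun i _ => hα i
  have hP' : ∀ i, P hs Φ (∏ i, α i) (Wi i) (hWU (hWW i)) := by
    intro i
    obtain ⟨c, hc⟩ := Finset.dvd_prod_of_mem α (Finset.mem_univ i)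
    rw [hc, mul_comm]
    exact (hP i).mul hs ((hWW i).trans e) c
  obtain ⟨Ψ, hΨ⟩ := exists_fam hs (Φ := Φ) hV₀ hE.1 hfl e (hWU le_rfl) fun V hVW =>
    P_of_cover hs Φ hV₀ hE.1 hfl Wi hWi (fun i => hWU (hWW i)) hP' (hVW.trans e)
      (hWU hVW) (hVW.trans hcov)
  obtain ⟨a', b', ha', hab⟩ := exists_scalar_of_fam hV₀ hs hE hfl Wi hWi
    (fun i => (hWW i).trans e) hWW Ψ (by
      intro s hsV hsc
      obtain ⟨Ψs, hΨs⟩ := exists_pull (f.fiberι s) Ψ
      have hcond : CodimCond f E ℓ s (f.fiberι s ⁻¹ᵁ W) := by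
        change CodimCond f E ℓ s (f.fiberι s ⁻¹ᵁ (U' ⊓ f ⁻¹ᵁ V₀))
        rw [preimage_inf_eq V₀ U' s hsV]
        exact hV s (hV₀V hsV)
      obtain ⟨c, hc⟩ := h s hsc _ hcond Ψs
      refine ⟨c, fun V hV m => ?_⟩
      rw [← hΨs V hV m]
      exact hc _ _ _)
  refine ⟨ev _ hs b' * (ev _ hs a' * ev _ hs (∏ i, α i))⁻¹, ?_⟩
  refine scalar_of_cover (isCoh_fiberMod (f := f) hE _).1 Φ (Coh.toGlobal _ _)
    (fun i => f.fiberι (genericPoint S) ⁻¹ᵁ Wi i)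
    (fun i => isAffineOpen_fiber hV₀ hs (hWi i) ((hWW i).trans e))
    (fun i => hWU (hWW i)) ?_ ?_
  · rw [← hWξ]
    intro z hz
    obtain ⟨i, hi⟩ := Opens.mem_iSup.mp (hcov hz)
    exact Opens.mem_iSup.mpr ⟨i, hi⟩
  · intro i m
    exact scalar_generic hV₀ hs hE Φ (hWi i) ((hWW i).trans e) (hWU (hWW i))
      (Ψ.app (Wi i) (hWW i)) (∏ i, α i) a' b' ha ha' (hΨ _ _) (hab i) m

end Main

end K850.EllMain
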