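import Groth.Agent.Coherent.K850.EllDim
import Groth.Agent.AssSch.K109.IsoStalk
import Groth.Agent.CohqA.AssInj
import Groth.Agent.Dcoh.StalkMod

/-!
# Nonvanishing of the restriction
-/

set_option autoImplicit false
universe u

open CategoryTheory CategoryTheory.Limits AlgebraicGeometry TopologicalSpace

namespace K850.EllNe

open Groth.Agent K850.EllDim

theorem restrict_ne {X : Scheme.{u}} {M : X.Modules} (U : X.Opens) {y : X} (hy : y ∈ U)
    (h : y ∈ CohB1.support M) : ¬ IsZero ((Scheme.Modules.restrictFunctor U.ι).obj M) := by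
  intro h0
  have h1 : IsZero ((Scheme.Modules.pullback U.ι).obj M) :=
    h0.of_iso ((Scheme.Modules.restrictFunctorIsoPullback U.ι).app M).symm
  have h2 := Dcoh.StalkMod.subsingleton_of_isZero h1 (⟨y, hy⟩ : (U : Scheme.{u}))
  have h3 : Nontrivial (M.presheaf.stalk (U.ι.base (⟨y, hy⟩ : (U : Scheme.{u})))) :=
    not_subsingleton_iff_nontrivial.mp h
  have h4 := (K109.IsoStalk.nontrivial_iff U.ι M (⟨y, hy⟩ : (U : Scheme.{u}))
    (K109.IsoStalk.bijective_of_isOpenImmersion _ _)).mpr h3
  exact not_subsingleton _ h2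

theorem not_isZero_restrict {S Y : Scheme.{u}} {f : Y ⟶ S} {E : Y.Modules} [IsProper f]
    [IsLocallyNoetherian S] (hE : Coh.IsCoh E) {s : S} (h0 : ¬ IsZero (CohIII.fiberMod f E s))
    {d ℓ : ℕ} (hp : ShStab.IsPure (f.fiber s) (CohIII.fiberMod f E s) d) (hℓ : 1 ≤ ℓ)
    (U : (f.fiber s).Opens) (hU : CodimCond f E ℓ s U) :
    ¬ IsZero ((Scheme.Modules.restrictFunctor U.ι).obj (CohIII.fiberMod f E s)) := by
  have hEs := isCoh_fiberMod (f := f) hE s
  have hlft := locallyOfFiniteType_fiber (f := f) s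
  have hln : IsLocallyNoetherian (f.fiber s) :=
    LocallyOfFiniteType.isLocallyNoetherian (f.fiberToSpecResidueField s)
  obtain ⟨y, hy⟩ := CohqA.AssInj.exists_mem_ass_of_not_isZero hEs.1 h0
  have hys := K847.AssPure.mem_support_of_mem_ass hy
  refine restrict_ne U ?_ hys
  by_contra hyU
  have h1 := @add_eq (S.residueField s) _ (f.fiber s) (f.fiberToSpecResidueField s) hlft _ hEs d
    hp y hys
  have h2 := (le_iff h1).mp (hU y hyU hys)
  rw [K847.AssPure.dim_closure_of_isPure hEs hp hy, bd] at h2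
  split_ifs at h2 with hd
  · have h3 : d ≤ d - (ℓ + 1) := by exact_mod_cast h2
    omega
  · exact absurd (le_bot_iff.mp h2) (WithBot.coe_ne_bot)

end K850.EllNe
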