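import Groth.Agent.VarietyB.FlatH0
import Groth.Agent.Flat2E.ValTriv9
import Groth.Agent.Ega43.FibSch2
import Groth.Agent.S1365
import Groth.Agent.Sga67.KosImm
import Groth.Prelude.Def_ega3

/-!
# Sections of a quasi-coherent module on the generic fibre and on the closed fibres
-/

set_option autoImplicit false
universe u

open CategoryTheory CategoryTheory.Limits AlgebraicGeometry TopologicalSpace TensorProduct

namespace K850.EllSec

open Groth.Agent Groth.Agent.Fdesc.LocGen VarietyB.FlatH0 VarietyB.BCAlg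

variable {S Y : Scheme.{u}} (f : Y ⟶ S) (E : Y.Modules) (s : S)

/-- evaluation in the residue field -/
noncomputable def ev {V : S.Opens} (hs : s ∈ V) : Γ(S, V) →+* S.residueField s :=
  (S.presheaf.germ V s hs ≫ S.residue s).hom

/-- the scalars on the fibre -/
noncomputable def sc (V' : (f.fiber s).Opens) : S.residueField s →+* Γ(f.fiber s, V') :=
  (ores (le_top : V' ≤ ⊤)).comp (Coh.toGlobal (f.fiberToSpecResidueField s))

variable {f s}

theorem ores_sc {V' V'' : (f.fiber s).Opens} (h : V'' ≤ V') (c : S.residueField s) :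
    ores h (sc f s V' c) = sc f s V'' c := by
  change ores h (ores le_top _) = ores le_top _
  rw [ores_ores]

theorem top_le {V : S.Opens} (hs : s ∈ V) : ⊤ ≤ (S.fromSpecResidueField s) ⁻¹ᵁ V := by
  intro y _
  change S.fromSpecResidueField s y ∈ V
  rw [Scheme.fromSpecResidueField_apply]
  exact hs

theorem appLE_top {V : S.Opens} (hs : s ∈ V) (a : Γ(S, V)) :
    (S.fromSpecResidueField s).appLE V ⊤ (top_le hs) a = (Scheme.ΓSpecIso _).inv (ev s hs a) := by
  rw [S1365.fromSpecResidueField_appLE s V hs]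
  rfl

/-- scalars and evaluation -/
theorem sc_ev {V : S.Opens} (hs : s ∈ V) (a : Γ(S, V)) (V' : (f.fiber s).Opens)
    (e : V' ≤ (f.fiberι s ≫ f) ⁻¹ᵁ V) :
    (f.fiberι s ≫ f).appLE V V' e a = sc f s V' (ev s hs a) := by
  have h1 : (f.fiberι s ≫ f).appLE V V' e =
      (f.fiberToSpecResidueField s ≫ S.fromSpecResidueField s).appLE V V'
        (by rw [← Scheme.Hom.fiber_fac]; exact e) := by
    simp only [Scheme.Hom.fiber_fac]
  rw [h1, ← Scheme.Hom.appLE_comp_appLE _ _ V ⊤ V' (top_le hs) le_top, CommRingCat.comp_apply,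
    appLE_top hs]
  rfl

theorem isPullback_fiber (f : Y ⟶ S) (s : S) :
    IsPullback (f.fiberι s) (f.fiberToSpecResidueField s) f (S.fromSpecResidueField s) :=
  IsPullback.of_hasPullback f (S.fromSpecResidueField s)

section Gen

variable [IsIntegral S] {V : S.Opens} (hV : IsAffineOpen V) (hs : genericPoint S ∈ V)

theorem bijective_residue : Function.Bijective (S.residue (genericPoint S)).hom := by
  refine ⟨?_, Scheme.residue_surjective S _⟩
  let i : Field (S.presheaf.stalk (genericPoint S)) := inferInstanceAs (Field S.functionField)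
  exact RingHom.injective _

theorem ev_injective : Function.Injective (ev (genericPoint S) hs) := by
  have : Nonempty V := ⟨⟨_, hs⟩⟩
  have h1 : Function.Injective (S.presheaf.germ V (genericPoint S) hs).hom :=
    germ_injective_of_isIntegral S (genericPoint S) hs
  exact (bijective_residue (S := S)).1.comp h1

include hV in
theorem exists_ev_mul (z : S.residueField (genericPoint S)) :
    ∃ a b : Γ(S, V), b ≠ 0 ∧ ev _ hs b * z = ev _ hs a := by
  have : Nonempty V := ⟨⟨_, hs⟩⟩
  obtain ⟨w, rfl⟩ := (bijective_residue (S := S)).2 z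
  have hfr : IsFractionRing Γ(S, V) S.functionField :=
    functionField_isFractionRing_of_isAffineOpen S V hV
  obtain ⟨⟨a, b⟩, hab⟩ := IsLocalization.surj (nonZeroDivisors Γ(S, V)) (S := S.functionField) w
  have hdom : IsDomain Γ(S, V) := inferInstance
  refine ⟨a, b, nonZeroDivisors.ne_zero b.2, ?_⟩
  have h2 := congrArg (S.residue (genericPoint S)).hom hab
  rw [map_mul, mul_comm] at h2
  exact h2

end Gen

theorem isAffineOpen_fiber {V : S.Opens} (hV : IsAffineOpen V) (hs : s ∈ V) {W : Y.Opens}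
    (hW : IsAffineOpen W) (e : W ≤ f ⁻¹ᵁ V) : IsAffineOpen (f.fiberι s ⁻¹ᵁ W) := by
  refine isAffineOpen_pull (isPullback_fiber f s) (top_le hs) e ?_ hV (isAffineOpen_top _) hW
  rw [Scheme.Hom.preimage_top, inf_top_eq]

theorem bijective_bc {V : S.Opens} (hV : IsAffineOpen V) (hs : s ∈ V) {W : Y.Opens}
    (hW : IsAffineOpen W) (e : W ≤ f ⁻¹ᵁ V) (hE : Coh.IsQCoh E) :
    IsBC (isPullback_fiber f s).w E (top_le hs) e (le_refl (f.fiberι s ⁻¹ᵁ W))
      (show f.fiberι s ⁻¹ᵁ W ≤ f.fiberToSpecResidueField s ⁻¹ᵁ ⊤ from le_top) := by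
  refine isBC_affine (isPullback_fiber f s) E hE (top_le hs) e ?_ _ _ hV (isAffineOpen_top _) hW
  rw [Scheme.Hom.preimage_top, inf_top_eq]

theorem sec_eq_pullSec {X X' : Scheme.{u}} (g : X' ⟶ X) (M : X.Modules) {U : X.Opens}
    (m : Γ(M, U)) : VarietyB.PullSec.sec g M (le_refl (g ⁻¹ᵁ U)) m = pullSec g m :=
  res_refl _ _

/-- Denominators on the generic fibre. -/
theorem exists_pullSec_eq [IsIntegral S] {V : S.Opens} (hV : IsAffineOpen V)
    (hs : genericPoint S ∈ V) {W : Y.Opens} (hW : IsAffineOpen W) (e : W ≤ f ⁻¹ᵁ V)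
    (hE : Coh.IsQCoh E)
    (x : Γ((Scheme.Modules.pullback (f.fiberι (genericPoint S))).obj E, f.fiberι _ ⁻¹ᵁ W)) :
    ∃ (a : Γ(S, V)) (m : Γ(E, W)), a ≠ 0 ∧
      pullSec (f.fiberι (genericPoint S)) m =
        sc f _ (f.fiberι (genericPoint S) ⁻¹ᵁ W) (ev _ hs a) • x := by
  have h1 := bijective_bc E hV hs hW e hE
  have : Nonempty V := ⟨⟨_, hs⟩⟩
  have hdom : IsDomain Γ(S, V) := inferInstance
  let i1 := algOver (S.fromSpecResidueField (genericPoint S)) (top_le hs)
  let i2 := modOver f E e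
  let i3 := modOver (f.fiberToSpecResidueField (genericPoint S))
    ((Scheme.Modules.pullback (f.fiberι (genericPoint S))).obj E)
    (show f.fiberι (genericPoint S) ⁻¹ᵁ W ≤ f.fiberToSpecResidueField _ ⁻¹ᵁ ⊤ from le_top)
  obtain ⟨z, hz⟩ := h1.2 x
  obtain ⟨b, m, hb, hm⟩ := Flat2E.ValTriv9.exists_smul_bc (R := Γ(S, V))
    (K := Γ(Spec (S.residueField (genericPoint S)), ⊤)) (fun z => by
    obtain ⟨z, rfl⟩ := (ConcreteCategory.bijective_of_isIso
      (Scheme.ΓSpecIso (S.residueField (genericPoint S))).inv).2 z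
    obtain ⟨a, b, hb, h⟩ := exists_ev_mul hV hs z
    refine ⟨a, b, hb, ?_⟩
    change (S.fromSpecResidueField (genericPoint S)).appLE V ⊤ (top_le hs) b * _ =
      (S.fromSpecResidueField (genericPoint S)).appLE V ⊤ (top_le hs) a
    rw [appLE_top hs, appLE_top hs, ← h]
    exact (map_mul (Scheme.ΓSpecIso (S.residueField (genericPoint S))).inv.hom _ _).symm)
    (secS (isPullback_fiber f (genericPoint S)).w E (top_le hs) e (le_refl _)
      (show f.fiberι (genericPoint S) ⁻¹ᵁ W ≤ f.fiberToSpecResidueField _ ⁻¹ᵁ ⊤ from le_top)) z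
  refine ⟨b, m, hb, ?_⟩
  rw [hz] at hm
  refine (sec_eq_pullSec _ _ _).symm.trans (hm.trans ?_)
  change (f.fiberToSpecResidueField (genericPoint S)).appLE ⊤ (f.fiberι (genericPoint S) ⁻¹ᵁ W)
    le_top ((S.fromSpecResidueField (genericPoint S)).appLE V ⊤ (top_le hs) b) • x = _
  rw [appLE_top hs]
  rfl

/-- Injectivity on the generic fibre, affine case. -/
theorem pullSec_injective_affine [IsIntegral S] {V : S.Opens} (hV : IsAffineOpen V)
    (hs : genericPoint S ∈ V) {W : Y.Opens} (hW : IsAffineOpen W) (e : W ≤ f ⁻¹ᵁ V)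
    (hE : Coh.IsQCoh E) (hfl : FlatMod.IsFlatOver f E) :
    Function.Injective (fun m : Γ(E, W) => pullSec (f.fiberι (genericPoint S)) m) := by
  have h1 := bijective_bc E hV hs hW e hE
  let i1 := algOver (S.fromSpecResidueField (genericPoint S)) (top_le hs)
  let i2 := modOver f E e
  let i3 := modOver (f.fiberToSpecResidueField (genericPoint S))
    ((Scheme.Modules.pullback (f.fiberι (genericPoint S))).obj E)
    (show f.fiberι (genericPoint S) ⁻¹ᵁ W ≤ f.fiberToSpecResidueField _ ⁻¹ᵁ ⊤ from le_top)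
  let i4 : Algebra Γ(S, V) Γ(Y, W) := (f.appLE V W e).hom.toAlgebra
  have i5 : IsScalarTower Γ(S, V) Γ(Y, W) Γ(E, W) := ⟨fun a b m => by
    rw [Algebra.smul_def, mul_smul]; rfl⟩
  have hflat : Module.Flat Γ(S, V) Γ(E, W) :=
    Ega43.FibSch2.flat_sections f E hE hfl hV hW e rfl
  have hinj : Function.Injective (Algebra.linearMap Γ(S, V)
      Γ(Spec (S.residueField (genericPoint S)), ⊤)) := by
    intro a b hab
    have h2 : (S.fromSpecResidueField (genericPoint S)).appLE V ⊤ (top_le hs) a =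
      (S.fromSpecResidueField (genericPoint S)).appLE V ⊤ (top_le hs) b := hab
    rw [appLE_top hs, appLE_top hs] at h2
    exact ev_injective hs ((ConcreteCategory.bijective_of_isIso
      (Scheme.ΓSpecIso (S.residueField (genericPoint S))).inv).1 h2)
  have h3 := Module.Flat.rTensor_preserves_injective_linearMap (M := Γ(E, W)) _ hinj
  intro m m' hm
  have h4 : (1 : Γ(Spec (S.residueField (genericPoint S)), ⊤)) ⊗ₜ[Γ(S, V)] m = 1 ⊗ₜ m' := by
    apply h1.1
    rw [bc_tmul, bc_tmul, one_smul, one_smul]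
    exact ((sec_eq_pullSec _ _ _).trans hm).trans (sec_eq_pullSec _ _ _).symm
  have h5 : (1 : Γ(S, V)) ⊗ₜ[Γ(S, V)] m = 1 ⊗ₜ m' := by
    apply h3
    rw [LinearMap.rTensor_tmul, LinearMap.rTensor_tmul, Algebra.linearMap_apply, map_one]
    exact h4
  have h6 := congrArg (TensorProduct.lid Γ(S, V) Γ(E, W)) h5
  rwa [TensorProduct.lid_tmul, TensorProduct.lid_tmul, one_smul, one_smul] at h6

/-- Injectivity on the generic fibre. -/
theorem pullSec_injective [IsIntegral S] {V : S.Opens} (hV : IsAffineOpen V)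
    (hs : genericPoint S ∈ V) {W : Y.Opens} (e : W ≤ f ⁻¹ᵁ V)
    (hE : Coh.IsQCoh E) (hfl : FlatMod.IsFlatOver f E) :
    Function.Injective (fun m : Γ(E, W) => pullSec (f.fiberι (genericPoint S)) m) := by
  intro m m' hm
  have hcov : ∀ y : W, ∃ A : Y.Opens, IsAffineOpen A ∧ y.1 ∈ A ∧ A ≤ W := fun y => by
    obtain ⟨A, hA, hyA, hAW⟩ := exists_isAffineOpen_mem_and_subset (U := W) (x := y.1) y.2
    exact ⟨A, hA, hyA, hAW⟩
  choose A hA hyA hAW using hcov
  refine res_ext E A hAW (fun y hy => Opens.mem_iSup.mpr ⟨⟨y, hy⟩, hyA _⟩) fun y => ?_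
  refine pullSec_injective_affine E hV hs (hA y) ((hAW y).trans e) hE hfl ?_
  change pullSec _ (res E (hAW y) m) = pullSec _ (res E (hAW y) m')
  rw [← res_pullSec, ← res_pullSec]
  exact congrArg _ hm

/-- Surjectivity of the evaluation at a closed point. -/
theorem appLE_surjective {V : S.Opens} (hV : IsAffineOpen V) (hs : s ∈ V)
    (hsc : IsClosed ({s} : Set S)) :
    Function.Surjective ((S.fromSpecResidueField s).appLE V ⊤ (top_le hs)).hom := by
  have hcl : IsClosedImmersion (S.fromSpecResidueField s) :=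
    isClosed_singleton_iff_isClosedImmersion.mp hsc
  intro w
  obtain ⟨a, ha⟩ := (S.fromSpecResidueField s).app_surjective V hV
    (ores (le_top : (S.fromSpecResidueField s) ⁻¹ᵁ V ≤ ⊤) w)
  refine ⟨a, ?_⟩
  have h1 : (S.fromSpecResidueField s).appLE V ⊤ (top_le hs) a =
      ores (top_le hs) ((S.fromSpecResidueField s).app V a) := by
    rw [Scheme.Hom.appLE]; rfl
  refine h1.trans ?_
  rw [ha, ores_ores, ores_refl]

theorem ev_surjective {V : S.Opens} (hV : IsAffineOpen V) (hs : s ∈ V)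
    (hsc : IsClosed ({s} : Set S)) : Function.Surjective (ev s hs) := by
  intro c
  obtain ⟨a, ha⟩ := appLE_surjective hV hs hsc ((Scheme.ΓSpecIso _).inv c)
  refine ⟨a, (ConcreteCategory.bijective_of_isIso (Scheme.ΓSpecIso (S.residueField s)).inv).1 ?_⟩
  rw [← ha]
  exact (appLE_top hs a).symm

/-- The kernel on a closed fibre. -/
theorem mem_of_pullSec_eq_zero {V : S.Opens} (hV : IsAffineOpen V) (hs : s ∈ V)
    (hsc : IsClosed ({s} : Set S)) {W : Y.Opens} (hW : IsAffineOpen W) (e : W ≤ f ⁻¹ᵁ V)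
    (hE : Coh.IsQCoh E) (m : Γ(E, W)) (hm : pullSec (f.fiberι s) m = 0) :
    letI := modOver f E e
    m ∈ RingHom.ker (ev s hs) • (⊤ : Submodule Γ(S, V) Γ(E, W)) := by
  have h1 := bijective_bc E hV hs hW e hE
  let i1 := algOver (S.fromSpecResidueField s) (top_le hs)
  let i2 := modOver f E e
  let i3 := modOver (f.fiberToSpecResidueField s)
    ((Scheme.Modules.pullback (f.fiberι s)).obj E)
    (show f.fiberι s ⁻¹ᵁ W ≤ f.fiberToSpecResidueField _ ⁻¹ᵁ ⊤ from le_top)
  let i4 : Module Γ(S, V) Γ((Scheme.Modules.pullback (f.fiberι s)).obj E, f.fiberι s ⁻¹ᵁ W) :=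
    Module.compHom _ (algebraMap Γ(S, V) Γ(Spec (S.residueField s), ⊤))
  have i5 : IsScalarTower Γ(S, V) Γ(Spec (S.residueField s), ⊤)
      Γ((Scheme.Modules.pullback (f.fiberι s)).obj E, f.fiberι s ⁻¹ᵁ W) :=
    ⟨fun a b c => by rw [Algebra.smul_def, mul_smul]; rfl⟩
  let σ := secS (isPullback_fiber f s).w E (top_le hs) e (le_refl (f.fiberι s ⁻¹ᵁ W))
      (show f.fiberι s ⁻¹ᵁ W ≤ f.fiberToSpecResidueField s ⁻¹ᵁ ⊤ from le_top)
  let g : Γ(E, W) →ₗ[Γ(S, V)]
      Γ((Scheme.Modules.pullback (f.fiberι s)).obj E, f.fiberι s ⁻¹ᵁ W) :=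
    { toFun := σ, map_add' := map_add σ, map_smul' := fun a m => map_smulₛₗ σ a m }
  have hg : IsBaseChange Γ(Spec (S.residueField s), ⊤) g :=
    (isBaseChange_iff g σ (fun _ => rfl)).mpr h1
  have h2 := Sga67.KosImm.mem_smul_top_of_isBaseChange (appLE_surjective hV hs hsc) g hg m
    ((sec_eq_pullSec _ _ _).trans hm)
  have h3 : RingHom.ker (algebraMap Γ(S, V) Γ(Spec (S.residueField s), ⊤)) =
      RingHom.ker (ev s hs) := by
    ext a
    rw [RingHom.mem_ker, RingHom.mem_ker]
    change (S.fromSpecResidueField s).appLE V ⊤ (top_le hs) a = 0 ↔ _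
    rw [appLE_top hs]
    exact map_eq_zero_iff _ (ConcreteCategory.bijective_of_isIso
      (Scheme.ΓSpecIso (S.residueField s)).inv).1
  rw [h3] at h2
  exact h2

end K850.EllSec
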