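import Groth.Agent.Coherent.K850.EllSec
import Groth.Agent.Coherent.K850.EllFam
import Groth.Agent.Pi1C.ZeroScheme
import Groth.Agent.CohqB.FiniteType2

/-!
# Spreading out endomorphisms from the generic fibre
-/

set_option autoImplicit false
universe u

open CategoryTheory CategoryTheory.Limits AlgebraicGeometry TopologicalSpace

namespace K850.EllSpread

open Groth.Agent Groth.Agent.Fdesc.LocGen K850.EllSec K850.EllFam

variable {S Y : Scheme.{u}} {f : Y ⟶ S} {E : Y.Modules}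

/-- functions of the base act on the pulled back sections by scalars -/
theorem pullSec_appLE_smul {s : S} {V : S.Opens} (hs : s ∈ V) {W : Y.Opens} (e : W ≤ f ⁻¹ᵁ V)
    (b : Γ(S, V)) (m : Γ(E, W)) :
    pullSec (f.fiberι s) (f.appLE V W e b • m) =
      sc f s (f.fiberι s ⁻¹ᵁ W) (ev s hs b) • pullSec (f.fiberι s) m := by
  rw [pullSec_smul]
  congr 1
  have h1 : f.appLE V W e ≫ (f.fiberι s).app W =
      (f.fiberι s ≫ f).appLE V (f.fiberι s ⁻¹ᵁ W)
        ((f.fiberι s).preimage_mono e) := by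
    rw [Scheme.Hom.app_eq_appLE, Scheme.Hom.appLE_comp_appLE]
  rw [← sc_ev (f := f) hs b (f.fiberι s ⁻¹ᵁ W) ((f.fiberι s).preimage_mono e), ← h1]
  rfl

section

variable [IsIntegral S] {V₀ : S.Opens} (hV₀ : IsAffineOpen V₀) (hs : genericPoint S ∈ V₀)
  {U : (f.fiber (genericPoint S)).Opens}
  (Φ : Fam ((Scheme.Modules.pullback (f.fiberι (genericPoint S))).obj E) U)

/-- `a Φ` preserves the sections of `E` over `V`. -/
def P (a : Γ(S, V₀)) (V : Y.Opens) (h : f.fiberι (genericPoint S) ⁻¹ᵁ V ≤ U) : Prop :=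
  ∀ m : Γ(E, V), ∃ m' : Γ(E, V), pullSec (f.fiberι (genericPoint S)) m' =
    sc f _ (f.fiberι (genericPoint S) ⁻¹ᵁ V) (ev _ hs a) •
      Φ.app (f.fiberι (genericPoint S) ⁻¹ᵁ V) h (pullSec (f.fiberι (genericPoint S)) m)

variable {Φ}

theorem P.mul {a : Γ(S, V₀)} {V : Y.Opens} {h : f.fiberι (genericPoint S) ⁻¹ᵁ V ≤ U}
    (hP : P hs Φ a V h) (e : V ≤ f ⁻¹ᵁ V₀) (b : Γ(S, V₀)) : P hs Φ (b * a) V h := by
  intro m
  obtain ⟨m', hm'⟩ := hP m
  refine ⟨f.appLE V₀ V e b • m', ?_⟩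
  rw [pullSec_appLE_smul hs e, hm', smul_smul, map_mul, map_mul]

variable (Φ)

include hV₀ in
/-- A common denominator. -/
theorem exists_P (hE : Coh.IsCoh E) {V : Y.Opens}
    (hV : IsAffineOpen V) (h : f.fiberι (genericPoint S) ⁻¹ᵁ V ≤ U) (e : V ≤ f ⁻¹ᵁ V₀) :
    ∃ a : Γ(S, V₀), a ≠ 0 ∧ P hs Φ a V h := by
  classical
  have : Nonempty V₀ := ⟨⟨_, hs⟩⟩
  have hdom : IsDomain Γ(S, V₀) := inferInstance
  have hq : Coh.IsQCoh E := hE.1
  have hfin : Module.Finite Γ(Y, V) Γ(E, V) :=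
    CohqB.FiniteType2.finite_sections_of_isFT E hE.2 hV
  obtain ⟨t, ht⟩ := hfin.fg_top
  have h1 : ∀ g : Γ(E, V), ∃ (a : Γ(S, V₀)) (m : Γ(E, V)), a ≠ 0 ∧
      pullSec (f.fiberι (genericPoint S)) m =
        sc f _ (f.fiberι (genericPoint S) ⁻¹ᵁ V) (ev _ hs a) •
        Φ.app (f.fiberι (genericPoint S) ⁻¹ᵁ V) h (pullSec (f.fiberι (genericPoint S)) g) :=
    fun g => exists_pullSec_eq E hV₀ hs hV e hE.1 _
  choose α μ hα hμ using h1
  refine ⟨∏ g ∈ t, α g, Finset.prod_ne_zero_iff.mpr fun g _ => hα g, ?_⟩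
  intro m
  have hm : m ∈ Submodule.span Γ(Y, V) (t : Set Γ(E, V)) := by rw [ht]; trivial
  induction hm using Submodule.span_induction with
  | mem g hg =>
    obtain ⟨c, hc⟩ := Finset.dvd_prod_of_mem α hg
    refine ⟨f.appLE V₀ V e c • μ g, ?_⟩
    rw [pullSec_appLE_smul hs e, hμ, smul_smul, hc, map_mul, map_mul, mul_comm]
  | zero =>
    refine ⟨0, ?_⟩
    have h0 : pullSec (f.fiberι (genericPoint S)) (0 : Γ(E, V)) = 0 := by
      have := pullSec_add (f.fiberι (genericPoint S)) (0 : Γ(E, V)) 0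
      rw [add_zero] at this
      exact left_eq_add.mp this
    rw [h0, map_zero, smul_zero]
  | add x y _ _ hx hy =>
    obtain ⟨x', hx'⟩ := hx
    obtain ⟨y', hy'⟩ := hy
    refine ⟨x' + y', ?_⟩
    rw [pullSec_add, hx', hy', pullSec_add, map_add, smul_add]
  | smul r x _ hx =>
    obtain ⟨x', hx'⟩ := hx
    refine ⟨r • x', ?_⟩
    rw [pullSec_smul, hx', pullSec_smul, Φ.smul, smul_comm]

/-- `P` passes to the basic opens. -/
theorem P.basicOpen (hE : Coh.IsQCoh E) {a : Γ(S, V₀)} {W : Y.Opens} (hW : IsAffineOpen W)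
    {h : f.fiberι (genericPoint S) ⁻¹ᵁ W ≤ U} (hP : P hs Φ a W h) (b : Γ(Y, W)) :
    P hs Φ a (Y.basicOpen b)
      (((f.fiberι (genericPoint S)).preimage_mono (Y.basicOpen_le b)).trans h) := by
  intro m
  obtain ⟨n, m0, hm0⟩ := Pi1C.ZeroScheme.exists_res_eq hE hW b m
  obtain ⟨m0', hm0'⟩ := hP m0
  obtain ⟨u, hu⟩ := ((Pi1C.ZeroScheme.isUnit_ores_basicOpen b).pow n)
  refine ⟨(↑u⁻¹ : Γ(Y, Y.basicOpen b)) • res E (Y.basicOpen_le b) m0', ?_⟩
  have h1 := congrArg (res _ ((f.fiberι (genericPoint S)).preimage_mono (Y.basicOpen_le b))) hm0'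
  rw [res_pullSec _ (Y.basicOpen_le b), res_smul, ← Φ.nat _ _ h,
    res_pullSec _ (Y.basicOpen_le b), hm0, ores_sc, pullSec_smul, Φ.smul, smul_comm] at h1
  rw [pullSec_smul, h1, smul_smul, ← map_mul, ← hu, Units.inv_mul, map_one, one_smul]

/-- `P` glues. -/
theorem P_glue (hV₀ : IsAffineOpen V₀) (hE : Coh.IsQCoh E) (hfl : FlatMod.IsFlatOver f E)
    {a : Γ(S, V₀)} {V : Y.Opens} (e : V ≤ f ⁻¹ᵁ V₀) (h : f.fiberι (genericPoint S) ⁻¹ᵁ V ≤ U)
    (hB : ∀ y ∈ V, ∃ (B : Y.Opens) (hB : B ≤ V), y ∈ B ∧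
      P hs Φ a B (((f.fiberι (genericPoint S)).preimage_mono hB).trans h)) :
    P hs Φ a V h := by
  intro m
  have hB' : ∀ y : V, ∃ (B : Y.Opens) (hB : B ≤ V), y.1 ∈ B ∧
      P hs Φ a B (((f.fiberι (genericPoint S)).preimage_mono hB).trans h) := fun y => hB y.1 y.2
  choose B hBV hyB hP using hB'
  choose μ hμ using fun y => hP y (res E (hBV y) m)
  have hc : V ≤ ⨆ y : V, B y := fun y hy => Opens.mem_iSup.mpr ⟨⟨y, hy⟩, hyB _⟩
  have key : ∀ (y : V) (C : Y.Opens) (hC : C ≤ B y),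
      pullSec (f.fiberι (genericPoint S)) (res E hC (μ y)) =
      sc f _ (f.fiberι (genericPoint S) ⁻¹ᵁ C) (ev _ hs a) •
        Φ.app (f.fiberι (genericPoint S) ⁻¹ᵁ C)
          (((f.fiberι (genericPoint S)).preimage_mono (hC.trans (hBV y))).trans h)
          (pullSec (f.fiberι (genericPoint S)) (res E (hC.trans (hBV y)) m)) := by
    intro y C hC
    rw [← res_pullSec, hμ, res_smul, ores_sc, ← Φ.nat, res_pullSec _ hC, res_res]
  obtain ⟨t, ht⟩ := res_glue E B hBV hc μ (by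
    intro i j
    refine pullSec_injective E hV₀ hs ((inf_le_left.trans (hBV i)).trans e) hE hfl ?_
    exact (key i _ inf_le_left).trans (key j _ inf_le_right).symm)
  refine ⟨t, ?_⟩
  refine res_ext _ (fun y => f.fiberι (genericPoint S) ⁻¹ᵁ B y)
    (fun y => (f.fiberι (genericPoint S)).preimage_mono (hBV y)) ?_ fun y => ?_
  · intro z hz
    exact Opens.mem_iSup.mpr ⟨⟨_, hz⟩, hyB ⟨_, hz⟩⟩
  · rw [res_pullSec _ (hBV y), ht, hμ, res_smul, ores_sc, ← Φ.nat, res_pullSec _ (hBV y)]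

/-- `P` for the opens of an open covered by affine opens satisfying `P`. -/
theorem P_of_cover (hV₀ : IsAffineOpen V₀) (hE : Coh.IsQCoh E) (hfl : FlatMod.IsFlatOver f E)
    {a : Γ(S, V₀)} {ι : Type*} (W : ι → Y.Opens) (hW : ∀ i, IsAffineOpen (W i))
    (hWU : ∀ i, f.fiberι (genericPoint S) ⁻¹ᵁ W i ≤ U)
    (hP : ∀ i, P hs Φ a (W i) (hWU i))
    {V : Y.Opens} (e : V ≤ f ⁻¹ᵁ V₀) (h : f.fiberι (genericPoint S) ⁻¹ᵁ V ≤ U)
    (hc : V ≤ ⨆ i, W i) : P hs Φ a V h := by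
  refine P_glue hs Φ hV₀ hE hfl e h fun y hy => ?_
  obtain ⟨i, hi⟩ := Opens.mem_iSup.mp (hc hy)
  obtain ⟨b, hb, hyb⟩ := (hW i).exists_basicOpen_le ⟨y, hy⟩ hi
  exact ⟨Y.basicOpen b, hb, hyb, (hP i).basicOpen hs Φ hE (hW i) b⟩

variable {Φ}

/-- **Spreading out the family.** -/
theorem exists_fam (hV₀ : IsAffineOpen V₀) (hE : Coh.IsQCoh E) (hfl : FlatMod.IsFlatOver f E)
    {a : Γ(S, V₀)} {W : Y.Opens} (e : W ≤ f ⁻¹ᵁ V₀)
    (hWU : f.fiberι (genericPoint S) ⁻¹ᵁ W ≤ U)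
    (hP : ∀ (V : Y.Opens) (h : V ≤ W),
      P hs Φ a V (((f.fiberι (genericPoint S)).preimage_mono h).trans hWU)) :
    ∃ Ψ : Fam E W, ∀ (V : Y.Opens) (h : V ≤ W) (m : Γ(E, V)),
      pullSec (f.fiberι (genericPoint S)) (Ψ.app V h m) =
        sc f _ (f.fiberι (genericPoint S) ⁻¹ᵁ V) (ev _ hs a) •
        Φ.app (f.fiberι (genericPoint S) ⁻¹ᵁ V)
          (((f.fiberι (genericPoint S)).preimage_mono h).trans hWU)
          (pullSec (f.fiberι (genericPoint S)) m) := by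
  choose ψ hψ using hP
  have hinj : ∀ (V : Y.Opens) (h : V ≤ W) {m m' : Γ(E, V)},
      pullSec (f.fiberι (genericPoint S)) m = pullSec (f.fiberι (genericPoint S)) m' → m = m' :=
    fun V h m m' hm => pullSec_injective E hV₀ hs (h.trans e) hE hfl hm
  refine ⟨{ app := fun V h => AddMonoidHom.mk' (ψ V h) fun x y => ?_
            smul := fun V h b m => ?_
            nat := fun V V' h h' m => ?_ }, hψ⟩
  · apply hinj V h
    rw [hψ, pullSec_add, map_add, smul_add, pullSec_add, hψ, hψ]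
  · apply hinj V h
    change pullSec _ (ψ V h (b • m)) = pullSec _ (b • ψ V h m)
    rw [hψ, pullSec_smul, pullSec_smul, hψ, Φ.smul, smul_comm]
  · apply hinj V' (h'.trans h)
    change pullSec _ (ψ V' _ (res E h' m)) = pullSec _ (res E h' (ψ V h m))
    rw [hψ, ← res_pullSec, ← res_pullSec, hψ, res_smul, ores_sc, ← Φ.nat]

end

end K850.EllSpread
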