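import Groth.Agent.S1709
import Groth.Agent.FormalA.PullbackQC
import Groth.Agent.Divis.IdealComap
import Groth.Agent.Pi1C.ZeroScheme
import Groth.Agent.AssSch.K109.FibAss
import Groth.Agent.Ega1.AmpFam
import Groth.Agent.Ega2.WeightPull

/-!
# Sections regular for a module: transport along open immersions

* `AssOn Z F x`: the point `x` is associated to the restriction of `F` to the closed subscheme `Z`.
* `Reg L F r σ`: `σ_0, …, σ_{r-1}` is an `F`-regular sequence of sections of `L`.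
* `Reg.pull`: transport along open immersions and isomorphisms of the modules.
-/

set_option autoImplicit false
universe u

open CategoryTheory CategoryTheory.Limits AlgebraicGeometry TopologicalSpace

namespace K850.RegSec

open Groth.Agent Groth.Agent.Fdesc.LocGen Groth.Agent.Pi1C.ZeroScheme
  Groth.Agent.Divis.IdealComap

variable {X Y : Scheme.{u}}

/-- The point `x` is associated to the restriction of `F` to `Z`. -/
def AssOn (Z : X.IdealSheafData) (F : X.Modules) (x : X) : Prop :=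
  ∃ z : Z.subscheme, Z.subschemeι z = x ∧
    z ∈ AssSch.Ass ((Scheme.Modules.pullback Z.subschemeι).obj F)

theorem assOn_iff [IsLocallyNoetherian X] (Z : X.IdealSheafData) {F : X.Modules}
    (hF : Coh.IsQCoh F) (x : X) :
    Curv2.IsAssPoint ((Scheme.Modules.pushforward Z.subschemeι).obj
      ((Scheme.Modules.pullback Z.subschemeι).obj F)) x ↔ AssOn Z F x := by
  have h1 : IsLocallyNoetherian Z.subscheme :=
    LocallyOfFiniteType.isLocallyNoetherian Z.subschemeι
  have h2 := (Groth.Agent.S1709.result Z.subschemeι ((Scheme.Modules.pullback Z.subschemeι).obj F)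
    (FormalA.PullbackQC.isQCoh_pullback _ _ hF)).1
  have h3 := Set.ext_iff.mp h2 x
  constructor
  · intro h
    obtain ⟨z, hz, hzx⟩ := h3.mpr h
    exact ⟨z, hzx, hz⟩
  · rintro ⟨z, hzx, hz⟩
    exact h3.mp ⟨z, hz, hzx⟩

theorem assOn_of_iso {Z : X.IdealSheafData} {F G : X.Modules} (e : F ≅ G) (x : X) :
    AssOn Z F x → AssOn Z G x := by
  rintro ⟨z, hz, h⟩
  exact ⟨z, hz, (K109.FibAss.mem_ass_of_iso ((Scheme.Modules.pullback Z.subschemeι).mapIso e) z).mp h⟩

theorem assOn_pull (j : X ⟶ Y) [IsOpenImmersion j] (Z : Y.IdealSheafData) (F : Y.Modules) (x : X)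
    (h : AssOn (Z.comap j) ((Scheme.Modules.pullback j).obj F) x) : AssOn Z F (j x) := by
  obtain ⟨z, hz, h⟩ := h
  let ψ : (Z.comap j).subscheme ⟶ Z.subscheme := (Z.comapIso j).hom ≫ pullback.snd _ _
  have hψ : ψ ≫ Z.subschemeι = (Z.comap j).subschemeι ≫ j := by
    simp only [ψ, Category.assoc]
    rw [← pullback.condition, Scheme.IdealSheafData.comapIso_hom_fst_assoc]
  have hopen : IsOpenImmersion ψ := inferInstance
  refine ⟨ψ z, ?_, ?_⟩
  · rw [← Scheme.Hom.comp_apply, hψ, Scheme.Hom.comp_apply, hz]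
  · rw [← show ψ.base z = ψ z from rfl,
      ← K109.IsoStalk.mem_ass_iff ψ _ z (K109.IsoStalk.bijective_of_isOpenImmersion ψ z)]
    exact (K109.FibAss.mem_ass_of_iso ((Scheme.Modules.pullbackComp ψ Z.subschemeι).app F ≪≫
      (Scheme.Modules.pullbackCongr hψ).app F ≪≫
      ((Scheme.Modules.pullbackComp (Z.comap j).subschemeι j).app F).symm) z).mpr h

/-- The zero scheme of the pull-back of a section. -/
theorem comap_zeroScheme (f : X ⟶ Y) {L : Y.Modules} (hL : PicF.IsInvertible L)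
    (s : Coh.structureModule Y ⟶ L) :
    (PicF2.zeroScheme L s).comap f = PicF2.zeroScheme _ (pullHom f s) := by
  refine ext_of_forall_mem fun x ↦ ?_
  obtain ⟨T, e, hxT, he⟩ := (isInvertible_iff L).mp hL (f x)
  obtain ⟨U, V, hxU, hxV, -, hUT, hVU⟩ := exists_affine_le f x ⊤ trivial T hxT
  have he' := he.res hUT
  obtain ⟨c, hc⟩ := he'.exists_eq (sec s U.1)
  refine ⟨V, hxV, ?_⟩
  rw [ideal_comap _ f U V hVU, ideal_eq_span s hL U he' hc, Ideal.map_span, Set.image_singleton]
  symm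
  refine ideal_eq_span (pullHom f s) (isInvertible_pullback f hL) V
    (e := res _ hVU (pullSec f (res L hUT e))) ((he'.pullSec f).res hVU) ?_
  rw [← res_sec (pullHom f s) hVU, sec_pullHom, hc, pullSec_smul, res_smul]
  rfl

theorem zeroScheme_comp_iso {L L' : X.Modules} (hL : PicF.IsInvertible L)
    (hL' : PicF.IsInvertible L') (s : Coh.structureModule X ⟶ L) (φ : L ≅ L') :
    PicF2.zeroScheme L' (s ≫ φ.hom) = PicF2.zeroScheme L s := by
  refine ext_of_forall_mem fun x ↦ ?_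
  obtain ⟨U, hU, hxU, -, e, he⟩ := exists_affine_isGen hL ⊤ x trivial
  obtain ⟨c, hc⟩ := he.exists_eq (sec s U)
  refine ⟨⟨U, hU⟩, hxU, ?_⟩
  rw [ideal_eq_span s hL ⟨U, hU⟩ he hc,
    ideal_eq_span (s ≫ φ.hom) hL' ⟨U, hU⟩ (e := φ.hom.app U e) (he.app φ.hom) (c := c)]
  rw [sec_comp, hc]
  exact Scheme.Modules.Hom.app_smul φ.hom c e

/-- the closed subscheme `Z(σ_0) ∩ ⋯ ∩ Z(σ_{j-1})` -/
noncomputable def Zj {L : X.Modules} (σ : ℕ → (Coh.structureModule X ⟶ L)) (j : ℕ) :
    X.IdealSheafData :=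
  ⨆ (l : ℕ) (_ : l < j), PicF2.zeroScheme L (σ l)

/-- `F`-regular sequences of sections of `L`. -/
def Reg (L F : X.Modules) (r : ℕ) (σ : ℕ → (Coh.structureModule X ⟶ L)) : Prop :=
  ∀ j < r, ∀ x, AssOn (Zj σ j) F x → x ∉ (PicF2.zeroScheme L (σ j)).support

/-- the transported family -/
noncomputable def pullFam (j : X ⟶ Y) {L : Y.Modules} {L' : X.Modules}
    (eL : (Scheme.Modules.pullback j).obj L ≅ L') (σ : ℕ → (Coh.structureModule Y ⟶ L)) :
    ℕ → (Coh.structureModule X ⟶ L') :=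
  fun l => pullHom j (σ l) ≫ eL.hom

theorem isInvertible_of_iso' {L L' : X.Modules} (e : L ≅ L') (hL : PicF.IsInvertible L) :
    PicF.IsInvertible L' := by
  rw [isInvertible_iff] at hL ⊢
  intro x
  obtain ⟨U, g, hxU, hg⟩ := hL x
  exact ⟨U, e.hom.app U g, hxU, hg.app e.hom⟩

theorem zeroScheme_pullFam (j : X ⟶ Y) {L : Y.Modules} {L' : X.Modules}
    (hL : PicF.IsInvertible L)
    (eL : (Scheme.Modules.pullback j).obj L ≅ L') (σ : ℕ → (Coh.structureModule Y ⟶ L)) (l : ℕ) :
    PicF2.zeroScheme L' (pullFam j eL σ l) = (PicF2.zeroScheme L (σ l)).comap j := by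
  rw [comap_zeroScheme j hL, pullFam, zeroScheme_comp_iso (isInvertible_pullback j hL)
    (isInvertible_of_iso' eL (isInvertible_pullback j hL))]

theorem Zj_pullFam (j : X ⟶ Y) {L : Y.Modules} {L' : X.Modules} (hL : PicF.IsInvertible L)
    (eL : (Scheme.Modules.pullback j).obj L ≅ L') (σ : ℕ → (Coh.structureModule Y ⟶ L)) (n : ℕ) :
    Zj (pullFam j eL σ) n = (Zj σ n).comap j := by
  rw [Zj, Zj, (Scheme.IdealSheafData.map_gc j).l_iSup₂]
  simp only [zeroScheme_pullFam j hL eL]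

theorem assOn_pullFam (j : X ⟶ Y) [IsOpenImmersion j] {L F : Y.Modules} {L' F' : X.Modules}
    (hL : PicF.IsInvertible L) (eL : (Scheme.Modules.pullback j).obj L ≅ L')
    (eF : (Scheme.Modules.pullback j).obj F ≅ F') (σ : ℕ → (Coh.structureModule Y ⟶ L)) (n : ℕ)
    (x : X) (h : AssOn (Zj (pullFam j eL σ) n) F' x) : AssOn (Zj σ n) F (j x) := by
  rw [Zj_pullFam j hL] at h
  exact assOn_pull j _ F x (assOn_of_iso eF.symm x h)

theorem notMem_pullFam (j : X ⟶ Y) {L : Y.Modules} {L' : X.Modules} (hL : PicF.IsInvertible L)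
    (eL : (Scheme.Modules.pullback j).obj L ≅ L') (σ : ℕ → (Coh.structureModule Y ⟶ L)) (n : ℕ)
    (x : X) (h : j x ∉ (PicF2.zeroScheme L (σ n)).support) :
    x ∉ (PicF2.zeroScheme L' (pullFam j eL σ n)).support := by
  rw [zeroScheme_pullFam j hL, Scheme.IdealSheafData.support_comap]
  exact h

theorem Reg.pull (j : X ⟶ Y) [IsOpenImmersion j] {L F : Y.Modules} {L' F' : X.Modules}
    (hL : PicF.IsInvertible L) (eL : (Scheme.Modules.pullback j).obj L ≅ L')
    (eF : (Scheme.Modules.pullback j).obj F ≅ F') {σ : ℕ → (Coh.structureModule Y ⟶ L)} {r : ℕ}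
    (h : Reg L F r σ) : Reg L' F' r (pullFam j eL σ) := fun n hn x hx =>
  notMem_pullFam j hL eL σ n x (h n hn (j x) (assOn_pullFam j hL eL eF σ n x hx))

end K850.RegSec
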