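import Groth.Agent.Coherent.K850.RegSec
import Groth.Agent.Flat2E.ValTriv9
import Groth.Agent.Variety.K433.GenFinite
import Groth.Agent.S1576
import Groth.Agent.FormalB.PullCoh
import Groth.Agent.VarietyB.GGStalk

/-!
# The generic step: one more regular section after shrinking
-/

set_option autoImplicit false
universe u

open CategoryTheory CategoryTheory.Limits AlgebraicGeometry TopologicalSpace

namespace K850.RegStep

open Groth.Agent Groth.Agent.Fdesc.LocGen Groth.Agent.Pi1C.ZeroScheme
  Groth.Agent.Divis.IdealComap K850.RegSec Flat2E.ValTriv9 Flat2E.ValTriv5 Flat2E.ValTriv4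

section Generic

variable {A : Type u} [CommRing A] [IsDomain A] {X : Scheme.{u}} (p : X ⟶ Spec (CommRingCat.of A))

theorem isUnit_str {a : A} (ha : a ≠ 0) :
    IsUnit (str (p.fiberι (eta A) ≫ p) (⊤ : (p.fiber (eta A)).Opens) a) := by
  have h3 : (p.fiberToSpecResidueField (eta A)).appTop ((Scheme.ΓSpecIso _).inv (toRes (eta A) a)) =
      str (p.fiberι (eta A) ≫ p) ⊤ a := by
    rw [(isPullback_fiber p (eta A)).w]
    refine Eq.trans ?_ (Flat2E.ValTriv7.str_comp (Spec.map (toRes (eta A)))
      (p.fiberToSpecResidueField (eta A)) (le_refl (p.fiberToSpecResidueField (eta A) ⁻¹ᵁ ⊤)) a)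
    rw [Flat2E.ValTriv7.str_SpecMap, Scheme.Hom.appTop, Scheme.Hom.app_eq_appLE]
    rfl
  rw [← h3]
  refine IsUnit.map _ (IsUnit.map _ ?_)
  rw [isUnit_iff_ne_zero]
  intro h
  exact ha ((mem_eta_iff a).mp ((toRes_eq_zero_iff _ _).mp h))

/-- A section of `L` on `X` generating at finitely many points of the generic fibre. -/
theorem exists_section (k : Type u) [Field k] [Infinite k] (q : X ⟶ Spec (CommRingCat.of k))
    [CompactSpace X] [QuasiSeparatedSpace X] (L : X.Modules) (hL : PicF.IsInvertible L)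
    (hg : Curv2.IsGloballyGenerated ((Scheme.Modules.pullback (p.fiberι (eta A))).obj L))
    (B : Set X) (hB : B.Finite) (hη : ∀ x ∈ B, p x = eta A) :
    ∃ s : Coh.structureModule X ⟶ L, B ⊆ CohB1.genLocus L s := by
  set j := p.fiberι (eta A) with hj
  let : (p.fiber (eta A)).Over (Spec (CommRingCat.of k)) := ⟨j ≫ q⟩
  obtain ⟨t, ht⟩ := K433.GenFinite.exists_gen_finite k (isInvertible_pullback j hL) hg
    (j ⁻¹' B) (hB.preimage (Set.injOn_of_injective j.isEmbedding.injective))
  obtain ⟨a, s, ha, hs⟩ := exists_pullTop p L hL (sec t ⊤)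
  refine ⟨homOf s, fun x hx => ?_⟩
  have hx' : x ∈ Set.range j := by
    rw [hj, Scheme.Hom.range_fiberι]
    exact hη x hx
  obtain ⟨z, rfl⟩ := hx'
  have h1 : z ∈ CohB1.genLocus _ t := ht hx
  have h2 : z ∈ CohB1.genLocus _ (pullHom j (homOf s)) := by
    rw [mem_genLocus_iff] at h1 ⊢
    obtain ⟨V, hzV, hV⟩ := h1
    refine ⟨V, hzV, ?_⟩
    have h3 : sec (pullHom j (homOf s)) ⊤ = str (j ≫ p) ⊤ a • sec t ⊤ := by
      have h4 := sec_pullHom j (homOf s) ⊤
      rw [sec_homOf, res_refl] at h4
      exact h4.trans hs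
    rw [← res_sec _ (le_top : V ≤ ⊤), h3, res_smul, res_sec]
    exact hV.unit_smul ((isUnit_str p ha).map _)
  rw [Ega1.AmpFam.genLocus_pullHom j hL] at h2
  exact h2

end Generic

variable {S X : Scheme.{u}} (f : X ⟶ S) (L F : X.Modules)

/-- A regular sequence of length `r` after base change along `g`. -/
def Q (r : ℕ) {T : Scheme.{u}} (g : T ⟶ S) : Prop :=
  ∃ σ : ℕ → (Coh.structureModule (pullback f g) ⟶
      (Scheme.Modules.pullback (pullback.fst f g)).obj L),
    Reg ((Scheme.Modules.pullback (pullback.fst f g)).obj L)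
      ((Scheme.Modules.pullback (pullback.fst f g)).obj F) r σ

/-- the transition map -/
noncomputable def tr {T' T : Scheme.{u}} (j : T' ⟶ T) (g : T ⟶ S) :
    pullback f (j ≫ g) ⟶ pullback f g :=
  pullback.lift (pullback.fst _ _) (pullback.snd _ _ ≫ j) (by
    rw [Category.assoc]; exact pullback.condition)

theorem tr_fst {T' T : Scheme.{u}} (j : T' ⟶ T) (g : T ⟶ S) :
    tr f j g ≫ pullback.fst f g = pullback.fst f (j ≫ g) := pullback.lift_fst _ _ _

theorem tr_snd {T' T : Scheme.{u}} (j : T' ⟶ T) (g : T ⟶ S) :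
    tr f j g ≫ pullback.snd f g = pullback.snd f (j ≫ g) ≫ j := pullback.lift_snd _ _ _

theorem isPullback_tr {T' T : Scheme.{u}} (j : T' ⟶ T) (g : T ⟶ S) :
    IsPullback (tr f j g) (pullback.snd f (j ≫ g)) (pullback.snd f g) j := by
  refine IsPullback.of_right ?_ (tr_snd f j g) (IsPullback.of_hasPullback f g)
  rw [tr_fst]
  exact IsPullback.of_hasPullback f (j ≫ g)

theorem isOpenImmersion_tr {T' T : Scheme.{u}} (j : T' ⟶ T) [IsOpenImmersion j] (g : T ⟶ S) :
    IsOpenImmersion (tr f j g) :=
  MorphismProperty.of_isPullback (isPullback_tr f j g).flip inferInstance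

/-- the comparison of the pulled back modules -/
noncomputable def trIso {T' T : Scheme.{u}} (j : T' ⟶ T) (g : T ⟶ S) (M : X.Modules) :
    (Scheme.Modules.pullback (tr f j g)).obj ((Scheme.Modules.pullback (pullback.fst f g)).obj M) ≅
      (Scheme.Modules.pullback (pullback.fst f (j ≫ g))).obj M :=
  (Scheme.Modules.pullbackComp (tr f j g) (pullback.fst f g)).app M ≪≫
    (Scheme.Modules.pullbackCongr (tr_fst f j g)).app M

theorem finite_assOn [IsNoetherian X] (Z : X.IdealSheafData) (hF : Coh.IsCoh F) :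
    {x | AssOn Z F x}.Finite := by
  have h1 : IsLocallyNoetherian Z.subscheme :=
    LocallyOfFiniteType.isLocallyNoetherian Z.subschemeι
  have h2 : CompactSpace Z.subscheme := QuasiCompact.compactSpace_of_compactSpace Z.subschemeι
  have h3 := Groth.Agent.S1576.result Z.subscheme _
    (FormalB.PullCoh.isCoh_pullback Z.subschemeι hF) ⊤ isCompact_univ
  refine (h3.image Z.subschemeι).subset ?_
  rintro x ⟨z, rfl, hz⟩
  exact ⟨z, ⟨trivial, hz⟩, rfl⟩

theorem isGloballyGenerated_fiber {A : Type u} [CommRing A] (g : Spec (CommRingCat.of A) ⟶ S)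
    (η : Spec (CommRingCat.of A))
    (hgen : ∀ s : S, Curv2.IsGloballyGenerated
      ((Scheme.Modules.pullback (pullback.fst f (S.fromSpecResidueField s))).obj L)) :
    Curv2.IsGloballyGenerated ((Scheme.Modules.pullback ((pullback.snd f g).fiberι η)).obj
      ((Scheme.Modules.pullback (pullback.fst f g)).obj L)) := by
  let φ : (pullback.snd f g).fiber η ⟶ pullback f (S.fromSpecResidueField (g η)) :=
    pullback.lift ((pullback.snd f g).fiberι η ≫ pullback.fst f g)
      ((pullback.snd f g).fiberToSpecResidueField η ≫ Spec.map (g.residueFieldMap η)) (by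
        rw [Category.assoc, Category.assoc, Scheme.Hom.SpecMap_residueFieldMap_fromSpecResidueField,
          pullback.condition, ← Category.assoc, ← Category.assoc]
        congr 1
        exact pullback.condition)
  have hφ : φ ≫ pullback.fst f (S.fromSpecResidueField (g η)) =
      (pullback.snd f g).fiberι η ≫ pullback.fst f g := pullback.lift_fst _ _ _
  have h1 := VarietyB.GGStalk.isGloballyGenerated_pullback φ _ (hgen (g η))
  obtain ⟨ι, π, hπ⟩ := h1
  let e := (Scheme.Modules.pullbackComp φ (pullback.fst f (S.fromSpecResidueField (g η)))).app L ≪≫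
    (Scheme.Modules.pullbackCongr hφ).app L ≪≫
    ((Scheme.Modules.pullbackComp ((pullback.snd f g).fiberι η) (pullback.fst f g)).app L).symm
  have he : IsIso e.hom := e.isIso_hom
  have he' : Epi e.hom := IsIso.epi_of_iso e.hom
  exact ⟨ι, π ≫ e.hom, @epi_comp _ _ _ _ _ π hπ e.hom he'⟩

theorem step (k : Type u) [Field k] [Infinite k] (q : S ⟶ Spec (CommRingCat.of k))
    [QuasiCompact f] [QuasiSeparated f] [LocallyOfFiniteType f]
    (hL : PicF.IsInvertible L) (hF : Coh.IsCoh F)
    (hgen : ∀ s : S, Curv2.IsGloballyGenerated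
      ((Scheme.Modules.pullback (pullback.fst f (S.fromSpecResidueField s))).obj L))
    {r : ℕ} {A : Type u} [CommRing A] [IsDomain A] [IsNoetherianRing A]
    (g : Spec (CommRingCat.of A) ⟶ S) (hQ : Q f L F r g) :
    ∃ a : A, a ≠ 0 ∧ Q f L F (r + 1)
      (Spec.map (CommRingCat.ofHom (algebraMap A (Localization.Away a))) ≫ g) := by
  classical
  obtain ⟨σ, hσ⟩ := hQ
  let p := pullback.snd f g
  have hlf : IsLocallyNoetherian (pullback f g) := LocallyOfFiniteType.isLocallyNoetherian p
  have hcpt : CompactSpace ↥(pullback f g) := QuasiCompact.compactSpace_of_compactSpace p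
  have hnoeth : IsNoetherian (pullback f g) := {}
  have hL1 : PicF.IsInvertible ((Scheme.Modules.pullback (pullback.fst f g)).obj L) :=
    isInvertible_pullback _ hL
  have hF1 : Coh.IsCoh ((Scheme.Modules.pullback (pullback.fst f g)).obj F) :=
    FormalB.PullCoh.isCoh_pullback _ hF
  have hfin := finite_assOn ((Scheme.Modules.pullback (pullback.fst f g)).obj F) (Zj σ r) hF1
  -- a section generating at the generic associated points
  obtain ⟨s, hs⟩ := exists_section p k (p ≫ g ≫ q) _ hL1
    (isGloballyGenerated_fiber f L g (eta A) hgen)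
    {x | AssOn (Zj σ r) ((Scheme.Modules.pullback (pullback.fst f g)).obj F) x ∧ p x = eta A}
    (hfin.subset fun x hx => hx.1) (fun x hx => hx.2)
  -- the function
  have h1 : ∀ x : ↥(pullback f g), ∃ b : A, b ≠ 0 ∧ (p x ≠ eta A → b ∈ (p x).asIdeal) := by
    intro x
    by_cases hx : p x = eta A
    · exact ⟨1, one_ne_zero, fun h => absurd hx h⟩
    · have h2 : (p x).asIdeal ≠ ⊥ := by
        intro h3
        apply hx
        refine PrimeSpectrum.ext ?_
        rw [h3]
        refine le_antisymm bot_le ?_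
        intro a ha
        rw [(mem_eta_iff a).mp ha]
        exact Submodule.zero_mem _
      obtain ⟨b, hb, hb0⟩ := Submodule.exists_mem_ne_zero_of_ne_bot h2
      exact ⟨b, hb0, fun _ => hb⟩
  choose b hb0 hb using h1
  let a : A := ∏ x ∈ hfin.toFinset, b x
  have ha : a ≠ 0 := Finset.prod_ne_zero_iff.mpr fun x _ => hb0 x
  refine ⟨a, ha, ?_⟩
  let σ' := Function.update σ r s
  have hσ'lt : ∀ n, n ≠ r → σ' n = σ n := fun n hn => Function.update_of_ne hn _ _
  have hσ'r : σ' r = s := Function.update_self _ _ _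
  have hZ : ∀ n, n ≤ r → Zj σ' n = Zj σ n := by
    intro n hn
    refine iSup_congr fun l => iSup_congr fun hl => ?_
    rw [hσ'lt l (by omega)]
  set j := Spec.map (CommRingCat.ofHom (algebraMap A (Localization.Away a))) with hj
  have hjo : IsOpenImmersion j := inferInstance
  have htr := isOpenImmersion_tr f j g
  refine ⟨pullFam (tr f j g) (trIso f j g L) σ', ?_⟩
  intro n hn x hx
  have hx1 := assOn_pullFam (tr f j g) hL1 (trIso f j g L) (trIso f j g F) σ' n x hx
  refine notMem_pullFam (tr f j g) hL1 (trIso f j g L) σ' n x ?_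
  rw [hZ n (by omega)] at hx1
  rcases Nat.lt_succ_iff_lt_or_eq.mp hn with h | h
  · rw [hσ'lt n (by omega)]
    exact hσ n h _ hx1
  · subst h
    rw [hσ'r, mem_support_iff s hL1, not_not]
    refine hs ⟨hx1, ?_⟩
    by_contra h2
    have h3 : a ∈ (p (tr f j g x)).asIdeal := by
      refine Ideal.mem_of_dvd _ (Finset.dvd_prod_of_mem b (hfin.mem_toFinset.mpr hx1)) (hb _ h2)
    have h4 : p (tr f j g x) = j (pullback.snd f (j ≫ g) x) := by
      rw [← Scheme.Hom.comp_apply, tr_snd, Scheme.Hom.comp_apply]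
    rw [h4] at h3
    have h5 : algebraMap A (Localization.Away a) a ∈ (pullback.snd f (j ≫ g) x).asIdeal := h3
    exact (pullback.snd f (j ≫ g) x).2.ne_top (Ideal.eq_top_of_isUnit_mem _ h5
      (IsLocalization.Away.algebraMap_isUnit a))

/-- After shrinking there are arbitrarily long regular sequences. -/
theorem exists_Q (k : Type u) [Field k] [Infinite k] (q : S ⟶ Spec (CommRingCat.of k))
    [QuasiCompact f] [QuasiSeparated f] [LocallyOfFiniteType f]
    (hL : PicF.IsInvertible L) (hF : Coh.IsCoh F)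
    (hgen : ∀ s : S, Curv2.IsGloballyGenerated
      ((Scheme.Modules.pullback (pullback.fst f (S.fromSpecResidueField s))).obj L)) (r : ℕ) :
    ∀ (A : CommRingCat.{u}) [IsDomain A] [IsNoetherianRing A] (g : Spec A ⟶ S),
      ∃ (A' : CommRingCat.{u}) (_ : IsDomain A') (_ : IsNoetherianRing A') (j : Spec A' ⟶ Spec A),
        IsOpenImmersion j ∧ Q f L F r (j ≫ g) := by
  induction r with
  | zero =>
    intro A _ _ g
    refine ⟨A, inferInstance, inferInstance, 𝟙 _, inferInstance, fun _ => 0, ?_⟩
    intro n hn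
    exact absurd hn (Nat.not_lt_zero n)
  | succ r ih =>
    intro A _ _ g
    obtain ⟨A', _, _, j, hj, hQ⟩ := ih A g
    obtain ⟨a, ha, hQ'⟩ := step f L F k q hL hF hgen (A := A') (j ≫ g) hQ
    have hd : IsDomain (Localization.Away a) :=
      IsLocalization.isDomain_localization (powers_le_nonZeroDivisors_of_noZeroDivisors ha)
    have hn : IsNoetherianRing (Localization.Away a) :=
      IsLocalization.isNoetherianRing (Submonoid.powers a) _ inferInstance
    refine ⟨CommRingCat.of (Localization.Away a), hd, hn,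
      Spec.map (CommRingCat.ofHom (algebraMap A' (Localization.Away a))) ≫ j, inferInstance, ?_⟩
    rw [Category.assoc]
    exact hQ'

end K850.RegStep
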