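import Groth.Agent.S2266
import Mathlib.AlgebraicGeometry.Noetherian
import Mathlib.AlgebraicGeometry.Morphisms.Immersion

/-!
# Stratifying a Noetherian scheme by spectra of domains

If every immersion `g : Spec A ⟶ S` with `A` a Noetherian domain has a nonempty open subset on which
a property `Q` holds, then `S` has a finite partition into locally closed subschemes with `Q`.
-/

set_option autoImplicit false
universe u

open CategoryTheory CategoryTheory.Limits AlgebraicGeometry TopologicalSpace

namespace K850.Strat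

/-- A nonempty reduced Noetherian scheme contains the spectrum of a Noetherian domain as an open subscheme. -/
theorem exists_domain (W : Scheme.{u}) [IsReduced W] [NoetherianSpace W] [Nonempty W]
    [IsLocallyNoetherian W] :
    ∃ (A : CommRingCat.{u}) (_ : IsDomain A) (_ : IsNoetherianRing A) (j : Spec A ⟶ W),
      IsOpenImmersion j := by
  obtain ⟨w⟩ := ‹Nonempty W›
  obtain ⟨o, ho, ⟨y, hy⟩, hoZ⟩ :=
    NoetherianSpace.exists_isOpen_nonempty_subset_irreducibleComponent (irreducibleComponent w)
      (irreducibleComponent_mem_irreducibleComponents w)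
  obtain ⟨_, ⟨V, hV, rfl⟩, hyV, hVo⟩ :=
    W.isBasis_affineOpens.exists_subset_of_mem_open hy ho
  have hirr : IsPreirreducible (V : Set W) :=
    isIrreducible_irreducibleComponent.isPreirreducible.open_subset V.isOpen (hVo.trans hoZ)
  have h1 : IrreducibleSpace V := by
    have h2 : PreirreducibleSpace V := Subtype.preirreducibleSpace hirr
    exact { toNonempty := ⟨⟨y, hyV⟩⟩ }
  have h2 : IsIntegral (V : Scheme.{u}) := isIntegral_of_irreducibleSpace_of_isReduced _
  have h3 : Nonempty V := ⟨⟨y, hyV⟩⟩
  have h4 : IsDomain Γ(W, V) := by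
    have e : Γ(W, V) ≅ Γ(V, ⊤) := (Scheme.Opens.topIso V).symm
    exact e.commRingCatIsoToRingEquiv.injective.isDomain e.hom.hom
  have h5 : IsNoetherianRing Γ(W, V) := IsLocallyNoetherian.component_noetherian ⟨V, hV⟩
  exact ⟨Γ(W, V), h4, h5, hV.fromSpec, hV.isOpenImmersion_fromSpec⟩

variable {S : Scheme.{u}}

/-- a partition of a closed subset of `S` into `Q`-pieces -/
def Part (Q : ∀ {T : Scheme.{u}}, (T ⟶ S) → Prop) (Z : Closeds S) : Prop :=
  ∃ (n : ℕ) (T : Fin n → Scheme.{u}) (g : ∀ i, T i ⟶ S),
    (∀ i, IsImmersion (g i)) ∧ (∀ i p, (g i).base p ∈ Z) ∧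
    (∀ s ∈ Z, ∃! p : (i : Fin n) × T i, (g p.1).base p.2 = s) ∧ ∀ i, Q (g i)

theorem part_of (Q : ∀ {T : Scheme.{u}}, (T ⟶ S) → Prop) [NoetherianSpace S] [IsLocallyNoetherian S]
    (h : ∀ (A : CommRingCat.{u}) [IsDomain A] [IsNoetherianRing A] (g : Spec A ⟶ S) [IsImmersion g],
      ∃ (A' : CommRingCat.{u}) (_ : Nonempty (Spec A')) (j : Spec A' ⟶ Spec A),
        IsOpenImmersion j ∧ Q (j ≫ g)) (Z : Closeds S) : Part Q Z := by
  induction Z using WellFoundedLT.induction with
  | ind Z IH =>
    rcases Set.eq_empty_or_nonempty (Z : Set S) with hZ | ⟨z, hz⟩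
    · refine ⟨0, Fin.elim0, fun i => i.elim0, fun i => i.elim0, fun i => i.elim0, ?_,
        fun i => i.elim0⟩
      intro s hs
      exact absurd (show s ∈ (Z : Set S) from hs) (by rw [hZ]; exact Set.notMem_empty s)
    · let I := Scheme.IdealSheafData.vanishingIdeal Z
      have hr : IsReduced I.subscheme := Groth.Agent.S2266.isReduced_subscheme I (fun U => by
        change ((Scheme.IdealSheafData.vanishingIdeal Z).ideal U).IsRadical
        rw [Scheme.IdealSheafData.vanishingIdeal_ideal]
        exact (PrimeSpectrum.isRadical_vanishingIdeal _))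
      have hrange : Set.range I.subschemeι = Z := by
        rw [Scheme.IdealSheafData.range_subschemeι, Scheme.IdealSheafData.coe_support_vanishingIdeal]
      have h1 : NoetherianSpace I.subscheme :=
        I.subschemeι.isClosedEmbedding.isInducing.noetherianSpace
      have h2 : Nonempty I.subscheme := by
        obtain ⟨y, -⟩ : z ∈ Set.range I.subschemeι := by rw [hrange]; exact hz
        exact ⟨y⟩
      have h3 : IsLocallyNoetherian I.subscheme :=
        LocallyOfFiniteType.isLocallyNoetherian I.subschemeι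
      obtain ⟨A, hA, hA', j, hj⟩ := exists_domain I.subscheme
      obtain ⟨A', ⟨p⟩, j', hj', hQ⟩ := h A (j ≫ I.subschemeι)
      set g := j' ≫ j ≫ I.subschemeι with hg
      have hgimm : IsImmersion g := inferInstance
      -- the new closed subset
      have hopen : IsOpen (Set.range (j' ≫ j)) := (j' ≫ j).isOpenEmbedding.isOpen_range
      have hcl : IsClosed (I.subschemeι '' (Set.range (j' ≫ j))ᶜ) :=
        I.subschemeι.isClosedEmbedding.isClosedMap _ hopen.isClosed_compl
      let Z' : Closeds S := ⟨_, hcl⟩
      have hinj : Function.Injective I.subschemeι := I.subschemeι.isClosedEmbedding.injective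
      have hgr : Set.range g = I.subschemeι '' (Set.range (j' ≫ j)) := by
        rw [hg, ← Category.assoc]
        ext s
        constructor
        · rintro ⟨t, rfl⟩
          exact ⟨(j' ≫ j) t, ⟨t, rfl⟩, rfl⟩
        · rintro ⟨_, ⟨t, rfl⟩, rfl⟩
          exact ⟨t, rfl⟩
      have hdisj : ∀ s, s ∈ Set.range g → s ∉ Z' := by
        intro s hs hs'
        rw [hgr] at hs
        obtain ⟨a, ha, rfl⟩ := hs
        obtain ⟨b, hb, hab⟩ := hs'
        exact hb (hinj hab ▸ ha)
      have hcov : ∀ s ∈ Z, s ∈ Set.range g ∨ s ∈ Z' := by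
        intro s hs
        have hs' : s ∈ Set.range I.subschemeι := by rw [hrange]; exact hs
        obtain ⟨a, rfl⟩ := hs'
        by_cases ha : a ∈ Set.range (j' ≫ j)
        · exact Or.inl (by rw [hgr]; exact ⟨a, ha, rfl⟩)
        · exact Or.inr ⟨a, ha, rfl⟩
      have hgZ : ∀ t, g.base t ∈ Z := by
        intro t
        change g.base t ∈ (Z : Set S)
        rw [← hrange]
        exact ⟨(j' ≫ j) t, by rw [hg]; rfl⟩
      have hZ'le : Z' ≤ Z := by
        rintro s ⟨a, -, rfl⟩
        change _ ∈ (Z : Set S)
        rw [← hrange]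
        exact ⟨a, rfl⟩
      have hlt : Z' < Z := by
        refine lt_of_le_of_ne hZ'le fun he => ?_
        exact hdisj (g p) ⟨p, rfl⟩ (he ▸ hgZ p)
      obtain ⟨n, T, γ, h4, h5, h6, h7⟩ := IH Z' hlt
      let T' : Fin (n + 1) → Scheme.{u} := Fin.cons (Spec A') T
      let γ' : ∀ i, T' i ⟶ S := Fin.cons g γ
      refine ⟨n + 1, T', γ', ?_, ?_, ?_, ?_⟩
      · intro i
        refine Fin.cases ?_ (fun i => ?_) i
        · exact hgimm
        · exact h4 i
      · intro i
        refine Fin.cases ?_ (fun i => ?_) i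
        · exact hgZ
        · intro t
          exact hZ'le (h5 i t)
      · intro s hs
        by_cases hsr : s ∈ Set.range g
        · obtain ⟨t, rfl⟩ := hsr
          refine ⟨⟨0, t⟩, rfl, ?_⟩
          rintro ⟨i, p⟩ hp
          revert p hp
          refine Fin.cases ?_ (fun i => ?_) i
          · intro p hp
            have : p = t := (show Function.Injective g.base from
              g.isEmbedding.injective) hp
            subst this
            rfl
          · intro p hp
            exact absurd (h5 i p) (fun hh => hdisj (g t) ⟨t, rfl⟩ (by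
              have : (γ i).base p = g t := hp
              rw [← this]; exact hh))
        · obtain ⟨⟨i, p⟩, hp, huniq⟩ := h6 s ((hcov s hs).resolve_left hsr)
          refine ⟨⟨i.succ, p⟩, hp, ?_⟩
          rintro ⟨i', p'⟩ hp'
          revert p' hp'
          refine Fin.cases ?_ (fun i' => ?_) i'
          · intro p' hp'
            exact absurd ⟨p', hp'⟩ hsr
          · intro p' hp'
            have := huniq ⟨i', p'⟩ hp'
            cases this
            rfl
      · intro i
        refine Fin.cases ?_ (fun i => ?_) i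
        · exact hQ
        · exact h7 i

/-- **Stratification.** -/
theorem exists_strat (Q : ∀ {T : Scheme.{u}}, (T ⟶ S) → Prop) [NoetherianSpace S]
    [IsLocallyNoetherian S]
    (h : ∀ (A : CommRingCat.{u}) [IsDomain A] [IsNoetherianRing A] (g : Spec A ⟶ S) [IsImmersion g],
      ∃ (A' : CommRingCat.{u}) (_ : Nonempty (Spec A')) (j : Spec A' ⟶ Spec A),
        IsOpenImmersion j ∧ Q (j ≫ g)) :
    ∃ (n : ℕ) (T : Fin n → Scheme.{u}) (g : (i : Fin n) → (T i ⟶ S)),
      (∀ i, IsImmersion (g i)) ∧
      (∀ s : S, ∃! p : (i : Fin n) × ↑(T i), (g p.1).base p.2 = s) ∧ ∀ i, Q (g i) := by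
  obtain ⟨n, T, g, h1, -, h3, h4⟩ := part_of Q h ⊤
  exact ⟨n, T, g, h1, fun s => h3 s trivial, h4⟩

end K850.Strat
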